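import Cfsg.Agent.Mrg.Omega.KL.QF.Fin
import Cfsg.Agent.Mrg.Omega.KL.Q.EndG
import Cfsg.Agent.Mrg.Omega.NO3S.EThree.Row7
import Cfsg.Agent.Mrg.Omega.KL.QF.PtV
import Cfsg.Agent.Mrg.Omega.NO3S.EThree.TPlug
import Cfsg.Agent.Mrg.Omega.NO3S.EThree.CoreOf
import Cfsg.Agent.Mrg.Omega.OM.Lev.Main
import Cfsg.Agent.Mrg.Omega.OM.FrSym
import Cfsg.Agent.Mrg.Omega.Node.MulG

section


/-!
# Row (7), branch (B): `KIn` from `MLK`, `Ext` and the frame `QFr`

* `QIn K` : in the situation `MQ`, `W i ≤ N_i`, the frame `QFr Z W B T` exists for some `T`;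
* `kIn_of` : **`KIn K` from `MLK`, `Ext`, `QIn K`**.
-/

set_option autoImplicit false
set_option linter.unusedSectionVars false

namespace Cfsg.Agent.Omega.KL.QF.KIn

open Subgroup Cfsg Cfsg.Agent.ZN.ChoiceBase
open Cfsg.Agent.Omega.NO3S.EThree.Frame
open Cfsg.Agent.Omega.NO3S.EThree.Row7
open Cfsg.Agent.Omega.KL.Q
open Cfsg.Agent.Omega.Frame (Cls)

universe u

/-- **The frame `QFr`** (UNI at every stage). -/
def QIn (K : Cls.{u}) : Prop :=
  ∀ (G : Type u) [Group G] [Finite G], K G → ∀ (S : Sylow 2 G) (P K' B ZJ : Subgroup G)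
    (L W Z C : Fin 2 → Subgroup G) (q : ℕ), MQ S P K' B ZJ L W Z C q → (∀ i, W i ≤ Nn Z i) →
      ∃ T : Subgroup G, QFr Z W B T

/-- **(B)**: `W i ≤ N_i` is impossible. -/
theorem false_of [Finite (Fin 2)] {G : Type u} [Group G] [Finite G] {S : Sylow 2 G} {P K' B ZJ : Subgroup G}
    {L W Z C : Fin 2 → Subgroup G} {q : ℕ} (h : MQ S P K' B ZJ L W Z C q) (hML : ML.Final.MLK.{u, u})
    (hN : DefG.NoPreG.{u, u}) {T : Subgroup G} (D : QFr Z W B T) : False := by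
  obtain ⟨s, p⟩ := h.exists_pa
  refine Fin.false_of_qfr h.bg p (fun l => fin2 l) h.hq hML hN (T := T) ?_
  rw [vec2, vec2]
  exact D

theorem kIn_of {K : Cls.{u}} (hML : ML.Final.MLK.{u, u}) (hE : ML.Ex.Two.Ext.{u, u}) (hQ : QIn K) : KIn K := by
  intro G _ _ hG S P K' B ZJ L W Z C q h hW
  obtain ⟨T, D⟩ := hQ G hG S P K' B ZJ L W Z C q h hW
  exact (false_of h hML (EndG.noPreG hML hE) D).elim

end Cfsg.Agent.Omega.KL.QF.KIn

end

section


/-!
# `QFr` at stage `-1`: `GenU` and `FixU` for `B = bau S` (`k = 2`, `q > 2`)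

* `exists_l` : the factors of two frames over `(bau S, Z_J)` agree modulo `Z_J`;
* `genU` : **`GenU`** from `UniOne.blkGenS` and UNI+; `fixU` : **`FixU`** from `FQ.fix`;
* `qfr_neg` : **`QFr Z W (bau S) (C_S(Z 0))`** at stage `-1`; `qIn_of` : `QIn` from its level half `QLev`.
-/

set_option autoImplicit false
set_option linter.unusedSectionVars false

namespace Cfsg.Agent.Omega.KL.QF.OfNeg

open Subgroup Cfsg Cfsg.Agent.ZN.ChoiceBase
open Cfsg.Agent.ZN (jj zj bau zc zl o2)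
open Cfsg.Agent.ZN.ChoiceSit (Syl exists_syl syl_conj)
open Cfsg.Agent.Omega.OM Cfsg.Agent.Omega.OM.Uni
open Cfsg.Agent.Omega.OM.UniPlus (NB)
open Cfsg.Agent.Omega.NO3S (HypJ HypN Hyp HypL)
open Cfsg.Agent.Omega.NO3S.Level (lev)
open Cfsg.Agent.Omega.NO3S.EThree (FQ FixA)
open Cfsg.Agent.Omega.NO3S.EThree.Frame
open Cfsg.Agent.Omega.NO3S.EThree.Row7
open Cfsg.Agent.Omega.MinPar (NonLoc)
open Cfsg.Agent.Omega.Frame (Cls)
open Cfsg.Agent.Omega.Node.MultiOf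
open Cfsg.Agent.MinSimple.MinParabolic (IsMinPar)
open Cfsg.Agent.MinSimple.VModule (le_normalizer_o2 o2_isPGroup le_o2 o2_le)
open Cfsg.Agent.Omega.KL.Q
open OfBg PtV
open scoped Pointwise

universe u

variable {G : Type u} [Group G]

section cmp

variable [Finite G] {S : Sylow 2 G} {P : Subgroup G} {k : ℕ} {L W Z C L' W' Z' C' A' : Fin k → Subgroup G} {q : ℕ}
  (h : Bg S P (bau (S : Subgroup G)) (zj (S : Subgroup G)) L W Z C q) (h' : Line S P L' W' Z' C' A' q) (hq : 2 < q)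

include h in
theorem zj_comm {x b : G} (hx : x ∈ zj (S : Subgroup G)) (hb : b ∈ bau (S : Subgroup G)) : b * x = x * b :=
  ((h.fr.mem_ZJ x).1 hx).2 b hb

include h h' hq

theorem exists_idx (i : Fin k) : ∃ i', Z i = Z' i' ∧ W i ≤ W' i' ⊔ zj (S : Subgroup G) := by
  obtain ⟨-, i', hZ, -, h1 | h1⟩ := h'.uniPlus (h.fr.blk i)
  · exact ⟨i', hZ, h1.1⟩
  · exact absurd h1.1 (by omega)

theorem sup_eq {i i' : Fin k} (hW : W i ≤ W' i' ⊔ zj (S : Subgroup G)) :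
    W i ⊔ zj (S : Subgroup G) = W' i' ⊔ zj (S : Subgroup G) := by
  refine Subgroup.eq_of_le_of_card_ge (sup_le hW le_sup_right) ?_
  have c1 := SQ1.Bau.card_sup_comm (A := W i) (B := zj (S : Subgroup G))
    fun a ha b hb => h.fr.Vc (h.fr.WV i ha) (h.fr.ZJV hb)
  have c2 := SQ1.Bau.card_sup_comm (A := W' i') (B := zj (S : Subgroup G))
    fun a ha b hb => h'.fr.Vc (h'.fr.WV i' ha) (h'.fr.ZJV hb)
  have e1 : W i ⊓ zj (S : Subgroup G) = Z i := by
    refine le_antisymm ?_ (le_inf (h.fr.blk i).ZV (h.fr.Z_le i))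
    rintro x ⟨hx, hx'⟩
    exact (h.fr.blk i).toMd.mem_Z_iff.2 ⟨hx, fun b hb => zj_comm h hx' hb⟩
  have e2 : W' i' ⊓ zj (S : Subgroup G) = Z' i' := by
    refine le_antisymm ?_ (le_inf (h'.fr.blk i').ZV (h'.fr.Z_le i'))
    rintro x ⟨hx, hx'⟩
    exact (h'.fr.blk i').toMd.mem_Z_iff.2 ⟨hx, fun b hb => zj_comm h hx' hb⟩
  rw [e1, (h.fr.blk i).card, h.fr.cardZ] at c1
  rw [e2, (h'.fr.blk i').card, h'.fr.cardZ] at c2
  exact (Nat.eq_of_mul_eq_mul_right (show 0 < q by omega) (c2.trans c1.symm)).le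

theorem exists_l (i' : Fin k) : ∃ l, Z l = Z' i' ∧ W l ⊔ zj (S : Subgroup G) = W' i' ⊔ zj (S : Subgroup G) := by
  choose f hf using exists_idx h h' hq
  have hinj : Function.Injective f := fun a b e =>
    h.Z_inj ((hf a).1.trans ((congrArg Z' e).trans (hf b).1.symm))
  obtain ⟨l, rfl⟩ := (Finite.injective_iff_surjective.1 hinj) i'
  exact ⟨l, (hf l).1, sup_eq h h' hq (hf l).2⟩

variable {i j : Fin k} {s : G} (p : Pa (S : Subgroup G) W i j s) (h2 : ∀ l : Fin k, l = i ∨ l = j) (hTI : TI (Z i))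
include p h2 hTI

/-- **`GenU` at stage `-1`.** -/
theorem genU (hFF : FFThm.Stmt.{u}) :
    GenU (S : Subgroup G) (bau (S : Subgroup G)) (zj (S : Subgroup G)) W Z q i j := by
  intro R hR hRC hRj
  set T : Subgroup G := (S : Subgroup G) ⊓ centralizer (Z i : Set G) with hTd
  have hST := syl_T h i
  have hT : Syl T R := ⟨hR.le, hST.2.1, fun Q hQ h3 hle => hST.2.2 Q (hQ.trans hRC) h3 hle⟩
  have hBT : bau (S : Subgroup G) ≤ T := B_le_T h i
  have hRn : R ≤ normalizer (Z i : Set G) := hRC.trans (centralizer_le_normalizer _)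
  have h4 : o2 (normalizer (Z i : Set G)) ≤ o2 R :=
    le_o2 ((h.o2_le i).trans (hBT.trans hR.le)) (o2_isPGroup _) (hRn.trans (le_normalizer_o2 _))
  have hcR : R ⊓ centralizer (o2 R : Set G) ≤ o2 R := by
    rintro x ⟨hx, hxc⟩
    exact h4 (h.char_Z i ⟨hRn hx, centralizer_le (by exact_mod_cast h4) hxc⟩)
  have hJ : ¬ jj T ≤ o2 R := by
    intro hJ
    rw [LemmaK.Main.jj_eq S hT.2.1 hBT] at hJ
    apply hRj
    have h1 : R ≤ normalizer (zj (S : Subgroup G) : Set G) :=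
      (le_normalizer_o2 R).trans ((LevD.LB.neg S).nrm _ (o2_isPGroup R) hJ)
    intro r hr
    refine mem_normalizer_of_cj_le ?_
    rintro _ ⟨z, hz, rfl⟩
    change r * z * r⁻¹ ∈ Z j
    by_cases hz1 : z = 1
    · rw [hz1, mul_one, mul_inv_cancel]; exact one_mem _
    have hx : r * z * r⁻¹ ∈ zj (S : Subgroup G) := (mem_normalizer_iff.1 (h1 hr) z).1 (h.fr.Z_le j hz)
    obtain ⟨l, hl⟩ := h.fus (i := j) (g := r) hx (by
      have e : r⁻¹ * (r * z * r⁻¹) * r = z := by group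
      rwa [e])
    rcases h2 l with e | e
    · exfalso
      subst e
      have h5 := mem_centralizer_iff.1 (hRC hr) _ hl
      have h6 : z = r * z * r⁻¹ := by
        have h7 : r * z * r⁻¹ * r = r * (r * z * r⁻¹) := h5
        rw [inv_mul_cancel_right] at h7
        exact mul_left_cancel h7
      have h8 : z ∈ Z l ⊓ Z j := ⟨h6 ▸ hl, hz⟩
      rw [h.Z_disj p.ne, mem_bot] at h8
      exact hz1 h8
    · rwa [e] at hl
  have hZ : ¬ R ≤ centralizer (zc T : Set G) := by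
    intro hc
    apply hRj
    obtain ⟨z, hz, hz1, hzT⟩ := ExBg.exists_fixed hT.2.1 (h.Z_two j) (h.Z_ne j) (T1 h p h2)
    have hzB : z ∈ bau (S : Subgroup G) := (h.fr.blk j).VB ((h.fr.blk j).ZV hz)
    have hzc : z ∈ zc T := by
      rw [mem_zc]
      refine ⟨hBT hzB, h.fr.Vsq (h.fr.ZV j hz), fun t ht => ?_⟩
      exact mul_inv_eq_iff_eq_mul.1 (hzT t ht)
    intro r hr
    have h5 := mem_centralizer_iff.1 (hc hr) z hzc
    refine ExBg.ti_mem (ExBg.TI_j h p hTI) hz hz1 ?_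
    rw [← h5, mul_inv_cancel_right]
    exact hz
  obtain ⟨L₁, V₁, ⟨⟨Z₁, q₁, hF⟩, -⟩, hL1, hL2⟩ := TC.UniOne.blkGenS hFF S hT hBT hR hcR hJ hZ
  obtain ⟨-, i', -, hNB, h1 | h1⟩ := h'.uniPlus hF
  · obtain ⟨l, hl, e⟩ := exists_l h h' hq i'
    exact ⟨L₁, V₁, l, hL1, hL2.trans (sup_comm L₁ T).le, hl ▸ hNB, e ▸ h1.1⟩
  · exact absurd h1.1 (by omega)

end cmp

section fix

variable [Finite G] {S : Sylow 2 G} {P : Subgroup G} {L W Z C L' W' Z' C' A' : Fin 2 → Subgroup G} {q : ℕ}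
  (h : Bg S P (bau (S : Subgroup G)) (zj (S : Subgroup G)) L W Z C q) (h' : Line S P L' W' Z' C' A' q) (hq : 2 < q)
include h h' hq

/-- the offender on one factor -/
theorem fixA {i j : Fin 2} (hij : i ≠ j) : FixA W (bau (S : Subgroup G)) i j := by
  obtain ⟨i', hi, hWi⟩ := exists_idx h h' hq i
  obtain ⟨j', hj, hWj⟩ := exists_idx h h' hq j
  have hij' : i' ≠ j' := fun e => hij (h.Z_inj (hi.trans ((congrArg Z' e).trans hj.symm)))
  have hAJ : ∀ a ∈ A' i', ∀ z ∈ zj (S : Subgroup G), a * z = z * a := fun a ha z hz =>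
    zj_comm h hz (h'.fr.AB i' ha)
  refine ⟨A' i', ⟨h'.fr.Ael i', h'.fr.AB i', fun E hE _ => ?_⟩, fun hc => ?_, ?_⟩
  · rw [h'.fr.Am i']
    exact h'.fr.max E hE
  · apply h'.fr.Ane i'
    intro a ha v hv
    have hv' : v ∈ W i ⊔ zj (S : Subgroup G) := by
      rw [sup_eq h h' hq hWi]
      exact mem_sup_left hv
    obtain ⟨w, hw, z, hz, rfl⟩ := SQ1.Bau.mem_sup_comm
      (fun x hx y hy => h.fr.Vc (h.fr.WV i hx) (h.fr.ZJV hy)) hv'
    have c1 : Commute a w := (mem_centralizer_iff.1 (hc ha) w hw).symm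
    have c2 : Commute a z := hAJ a ha z hz
    exact (c1.mul_right c2).eq
  · intro a ha
    rw [mem_centralizer_iff]
    intro v hv
    obtain ⟨w, hw, z, hz, rfl⟩ := SQ1.Bau.mem_sup_comm
      (fun x hx y hy => h'.fr.Vc (h'.fr.WV j' hx) (h'.fr.ZJV hy)) (hWj hv)
    have c1 : Commute a w := h'.fr.AC i' a ha w (h'.fr.WjC i' j' hij' hw)
    have c2 : Commute a z := hAJ a ha z hz
    exact (c1.mul_right c2).eq.symm

/-- **`FixU` at stage `-1`.** -/
theorem fixU {i j : Fin 2} (hij : i ≠ j) (hTI : TI (Z 0))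
    (hnl : NonLoc (normalizer (Z 0 : Set G)) (normalizer (Z 1 : Set G))) : FixU (S : Subgroup G) P W Z i j := by
  have D : FQ Z W (bau (S : Subgroup G)) q := NO3S.EThree.FQ.of_bg h hTI hnl
  intro R _ _ _ r _ w hw hn hcom
  obtain ⟨h1, h2⟩ := (NO3S.EThree.BgQ.mem_Q_iff h).1 hn
  rw [NO3S.EThree.BgQ.V_eq h]
  refine D.fix hij (fixA h h' hq hij) h1 h2 ?_ fun b hb hbU => ?_
  · have e : (r * w * r⁻¹) ^ 2 = r * w ^ 2 * r⁻¹ := by rw [conj_pow]
    rw [e, h.fr.Vsq (h.fr.WV i hw), mul_one, mul_inv_cancel]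
  · exact hcom b ((NO3S.EThree.BgQ.mem_Q_iff h).2 ⟨hb, hbU⟩)

end fix

/-- **`QFr` at stage `-1`.** -/
theorem qfr_neg [Finite G] {S : Sylow 2 G} {P K' : Subgroup G} {L W Z C : Fin 2 → Subgroup G} {q : ℕ}
    (hFF : FFThm.Stmt.{u}) (h : MQ S P K' (bau (S : Subgroup G)) (zj (S : Subgroup G)) L W Z C q)
    (hj : ¬ jj (S : Subgroup G) ≤ o2 P) (hW : ∀ i, W i ≤ Nn Z i) :
    QFr Z W (bau (S : Subgroup G)) ((S : Subgroup G) ⊓ centralizer (Z 0 : Set G)) := by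
  obtain ⟨s, p⟩ := h.exists_pa
  obtain ⟨F, _, _, _, hF, ⟨N⟩⟩ := h.mul.nat
  have hJ : HypJ S P := ⟨h.mul.hyp.toHypN, hj⟩
  obtain ⟨L', W', Z', C', A', -, -, -, -, h'⟩ := Line.exists_nat hJ le_rfl N.toNatK
  rw [hF] at h'
  have hq : 2 < q := lt_of_lt_of_le (by norm_num) h.hq
  have h1 : QFr ![Z 0, Z 1] ![W 0, W 1] (bau (S : Subgroup G)) ((S : Subgroup G) ⊓ centralizer (Z 0 : Set G)) := by
    refine qfr_of h.bg p (fun l => fin2 l) (h.ti 0) h.nonloc ?_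
      (genU h.bg h' hq p (fun l => fin2 l) (h.ti 0) hFF) (fixU h.bg h' hq p.ne (h.ti 0) h.nonloc)
    rw [vec2]
    exact hW 0
  rwa [vec2, vec2] at h1

/-- The level half of `QIn`. -/
def QLev (K : Cls.{u}) : Prop :=
  ∀ (G : Type u) [Group G] [Finite G], K G → ∀ (S : Sylow 2 G) (P : Subgroup G) (n : ℕ)
    (L W Z C : Fin 2 → Subgroup G) (q : ℕ),
    (∀ R, MinPar.IsParS (S : Subgroup G) R → lev (S : Subgroup G) n ≤ o2 R) → lev (S : Subgroup G) n ≤ o2 P →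
    ¬ lev (S : Subgroup G) (n + 1) ≤ o2 P →
    MQ S P (lev (S : Subgroup G) (n + 1)) ((S : Subgroup G) ⊓ centralizer (zc (lev (S : Subgroup G) (n + 1)) : Set G))
      (zc (lev (S : Subgroup G) (n + 1))) L W Z C q → (∀ i, W i ≤ Nn Z i) →
      ∃ T : Subgroup G, QFr Z W ((S : Subgroup G) ⊓ centralizer (zc (lev (S : Subgroup G) (n + 1)) : Set G)) T

/-- **`QIn`** from `FFThm` and its level half. -/
theorem qIn_of {K : Cls.{u}} (hFF : FFThm.Stmt.{u}) (hL : QLev K) : KIn.QIn K := by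
  intro G _ _ hG S P K' B ZJ L W Z C q h hW
  have hs := h.mul.stg
  cases hs with
  | neg hj => exact ⟨_, qfr_neg hFF h hj hW⟩
  | lev n hall hn hn1 => exact hL G hG S P n L W Z C q hall hn hn1 h hW

end Cfsg.Agent.Omega.KL.QF.OfNeg

end

section


/-!
# Row (7), branch (B) over `MulG` (`HypL` and the case (L) of GammaFF at the same time)

* `MH` : `MulG`, `k = 2`, `4 ≤ q`, TI, nonlocal;
* `false_of` : **`MH`, `QFr Z W B T`, `MLK`, `NoPreG` give `False`**;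
* `qfr_neg` : `QFr` at stage `-1`; `QInG`, `QTopG` (the half `Top S P K₀`), `qInG_of`, `kInG_of`.
-/

set_option autoImplicit false
set_option linter.unusedSectionVars false

namespace Cfsg.Agent.Omega.KL.QF.KInG

open Subgroup Cfsg Cfsg.Agent.ZN.ChoiceBase
open Cfsg.Agent.ZN (jj zj bau zc zl o2)
open Cfsg.Agent.Omega.OM
open Cfsg.Agent.Omega.NO3S (HypJ HypN Hyp HypF FrP)
open Cfsg.Agent.Omega.NO3S.Level (nxt)
open Cfsg.Agent.Omega.NO3S.EThree.Frame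
open Cfsg.Agent.Omega.NO3S.EThree.Row7 (vec2 fin2 Nn)
open Cfsg.Agent.Omega.MinPar (NonLoc)
open Cfsg.Agent.Omega.Frame (Cls)
open Cfsg.Agent.Omega.Node.MulG
open Cfsg.Agent.Omega.KL.Q

universe u

variable {G : Type u} [Group G]

/-- The data of row (7) over `MulG`. -/
structure MH [Finite G] (S : Sylow 2 G) (P K B ZJ : Subgroup G) (L W Z C : Fin 2 → Subgroup G) (q : ℕ) : Prop where
  mul : MulG S P K B ZJ L W Z C q
  hq : 4 ≤ q
  ti : ∀ i, TI (Z i)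
  nonloc : NonLoc (normalizer (Z 0 : Set G)) (normalizer (Z 1 : Set G))

section

variable [Finite G] {S : Sylow 2 G} {P K' B ZJ : Subgroup G} {L W Z C : Fin 2 → Subgroup G} {q : ℕ}

theorem exists_pa (h : Bg S P B ZJ L W Z C q) : ∃ s, Pa (S : Subgroup G) W 0 1 s := by
  obtain ⟨j, s, p⟩ := h.exists_partner 0
  rcases fin2 j with rfl | rfl
  · exact absurd rfl p.ne
  · exact ⟨s, p⟩

/-- **(B)** over `Bg`, `k = 2`. -/
theorem false_of_bg (h : Bg S P B ZJ L W Z C q) (hq : 4 ≤ q) (hML : ML.Final.MLK.{u, u})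
    (hN : DefG.NoPreG.{u, u}) {T : Subgroup G} (D : QFr Z W B T) : False := by
  obtain ⟨s, p⟩ := exists_pa h
  refine Fin.false_of_qfr h p (fun l => fin2 l) hq hML hN (T := T) ?_
  rw [vec2, vec2]
  exact D

/-- **(B)** over `MulG`. -/
theorem false_of (h : MH S P K' B ZJ L W Z C q) (hML : ML.Final.MLK.{u, u})
    (hN : DefG.NoPreG.{u, u}) {T : Subgroup G} (D : QFr Z W B T) : False :=
  false_of_bg h.mul.bg h.hq hML hN D

/-- **`QFr` at stage `-1`.** -/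
theorem qfr_neg (hFF : FFThm.Stmt.{u}) (h : MH S P K' (bau (S : Subgroup G)) (zj (S : Subgroup G)) L W Z C q)
    (hj : ¬ jj (S : Subgroup G) ≤ o2 P) (hW : W 0 ≤ PG.NN Z (Z 0)) :
    QFr Z W (bau (S : Subgroup G)) ((S : Subgroup G) ⊓ centralizer (Z 0 : Set G)) := by
  obtain ⟨s, p⟩ := exists_pa h.mul.bg
  obtain ⟨F, _, _, _, hF, ⟨N⟩⟩ := h.mul.nat
  have hJ : HypJ S P := ⟨h.mul.hyp.toHypN, hj⟩
  obtain ⟨L', W', Z', C', A', -, -, -, -, h'⟩ := Line.exists_nat hJ le_rfl N.toNatK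
  rw [hF] at h'
  have hq : 2 < q := lt_of_lt_of_le (by norm_num) h.hq
  have h1 : QFr ![Z 0, Z 1] ![W 0, W 1] (bau (S : Subgroup G)) ((S : Subgroup G) ⊓ centralizer (Z 0 : Set G)) := by
    refine OfBg.qfr_of h.mul.bg p (fun l => fin2 l) (h.ti 0) h.nonloc ?_
      (OfNeg.genU h.mul.bg h' hq p (fun l => fin2 l) (h.ti 0) hFF)
      (OfNeg.fixU h.mul.bg h' hq p.ne (h.ti 0) h.nonloc)
    rw [vec2]
    exact hW
  rwa [vec2, vec2] at h1

end

section sockets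

variable (K : Cls.{u}) (H : FrP.{u})

/-- the frame `QFr` over `MulG` and `H` -/
def QInG : Prop :=
  ∀ (G : Type u) [Group G] [Finite G], K G → ∀ (S : Sylow 2 G) (P K' B ZJ : Subgroup G)
    (L W Z C : Fin 2 → Subgroup G) (q : ℕ), H G S P → MH S P K' B ZJ L W Z C q → (∀ i, W i ≤ PG.NN Z (Z i)) →
      ∃ T : Subgroup G, QFr Z W B T

/-- the half `Top S P K₀` of `QInG` -/
def QTopG : Prop :=
  ∀ (G : Type u) [Group G] [Finite G], K G → ∀ (S : Sylow 2 G) (P K₀ : Subgroup G)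
    (L W Z C : Fin 2 → Subgroup G) (q : ℕ), H G S P → Top S P K₀ →
      MH S P (nxt (S : Subgroup G) K₀) ((S : Subgroup G) ⊓ centralizer (zc (nxt (S : Subgroup G) K₀) : Set G))
        (zc (nxt (S : Subgroup G) K₀)) L W Z C q → (∀ i, W i ≤ PG.NN Z (Z i)) →
      ∃ T : Subgroup G, QFr Z W ((S : Subgroup G) ⊓ centralizer (zc (nxt (S : Subgroup G) K₀) : Set G)) T

/-- **(B)** over `MulG` and `H`: `W i ≤ N_i` is impossible. -/
def BInG : Prop :=
  ∀ (G : Type u) [Group G] [Finite G], K G → ∀ (S : Sylow 2 G) (P K' B ZJ : Subgroup G)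
    (L W Z C : Fin 2 → Subgroup G) (q : ℕ), H G S P → MH S P K' B ZJ L W Z C q →
      (∀ i, W i ≤ PG.NN Z (Z i)) → False

variable {K} {H}

theorem qInG_of (hFF : FFThm.Stmt.{u}) (hT : QTopG K H) : QInG K H := by
  intro G _ _ hG S P K' B ZJ L W Z C q hH h hW
  have hs := h.mul.stg
  cases hs with
  | neg hj => exact ⟨_, qfr_neg hFF h hj (hW 0)⟩
  | lev K₀ hK => exact hT G hG S P K₀ L W Z C q hH hK h hW

/-- **Row (7), (B), over `MulG`.** -/
theorem kInG_of (hML : ML.Final.MLK.{u, u}) (hE : ML.Ex.Two.Ext.{u, u}) (hQ : QInG K H) : BInG K H := by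
  intro G _ _ hG S P K' B ZJ L W Z C q hH h hW
  obtain ⟨T, D⟩ := hQ G hG S P K' B ZJ L W Z C q hH h hW
  exact false_of h hML (EndG.noPreG hML hE) D

end sockets

end Cfsg.Agent.Omega.KL.QF.KInG

end
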