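import Cfsg.Agent.Mrg.Omega.KL.QF.OfLev
import Cfsg.Agent.Mrg.Omega.KL.QF.KIn
import Cfsg.Agent.Mrg.Omega.Node.SymG
import Cfsg.Agent.Mrg.Omega.EK3.Q.Def

-- merged: Cfsg.Agent.Mrg.Omega.KL.QF.QTop
section

/-!
# `QTopG K H` (651's literal) from the weird socket

* `WeirdIn K H` : in the situation `MH`, `Top S P K₀`, `W i ≤ N_i`: the minimal parabolics over `T = C_S(Z 0)` in
  `C(Z 0)` which move `Z 1` have `K₀ ≤ O₂(R)`;
* `qTopG_of : WeirdIn K H → QTopG K H`; `bInG_of` : **row (7), `W i ≤ N_i`, over `MulG` and `H`.**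
-/

set_option autoImplicit false

namespace Cfsg.Agent.Omega.KL.QF.QTop

open Subgroup Cfsg Cfsg.Agent.ZN.ChoiceBase
open Cfsg.Agent.ZN (jj zj bau zc zl o2)
open Cfsg.Agent.Omega.OM
open Cfsg.Agent.Omega.NO3S (FrP)
open Cfsg.Agent.Omega.NO3S.Level (nxt)
open Cfsg.Agent.Omega.NO3S.EThree.Row7 (vec2 fin2)
open Cfsg.Agent.Omega.Frame (Cls)
open Cfsg.Agent.Omega.Node.MulG
open KInG OfTop

universe u

/-- **The weird socket.** -/
def WeirdIn (K : Cls.{u}) (H : FrP.{u}) : Prop :=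
  ∀ (G : Type u) [Group G] [Finite G], K G → ∀ (S : Sylow 2 G) (P K₀ : Subgroup G)
    (L W Z C : Fin 2 → Subgroup G) (q : ℕ), H G S P → Top S P K₀ →
      MH S P (nxt (S : Subgroup G) K₀) ((S : Subgroup G) ⊓ centralizer (zc (nxt (S : Subgroup G) K₀) : Set G))
        (zc (nxt (S : Subgroup G) K₀)) L W Z C q → (∀ i, W i ≤ PG.NN Z (Z i)) →
      WeirdK (S : Subgroup G) K₀ Z 0 1

variable {K : Cls.{u}} {H : FrP.{u}}

theorem qTopG_of (hw : WeirdIn K H) : QTopG K H := by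
  intro G _ _ hG S P K₀ L W Z C q hH hT h hW
  obtain ⟨s, p⟩ := exists_pa h.mul.bg
  have h1 := qfr_top h.mul.bg p (fun l => fin2 l) (h.ti 0) h.nonloc (by rw [vec2]; exact hW 0) hT.lev hT.le hT.nxt rfl
    rfl h.mul.nat (hw G hG S P K₀ L W Z C q hH hT h hW)
  rw [vec2, vec2] at h1
  exact ⟨_, h1⟩

/-- **Row (7), (B), over `MulG` and `H`.** -/
theorem bInG_of (hFF : FFThm.Stmt.{u}) (hML : ML.Final.MLK.{u, u}) (hE : ML.Ex.Two.Ext.{u, u}) (hw : WeirdIn K H) :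
    BInG K H := kInG_of hML hE (qInG_of hFF (qTopG_of hw))

end Cfsg.Agent.Omega.KL.QF.QTop

end

-- merged: Cfsg.Agent.Mrg.Omega.KL.QF.KInX
section

/-!
# Row (7), branch (B) (`W i ≤ N_i`) over `MulL` (case (L) of GammaFF), `k = 2`, `q ≥ 4`

* `YQ_eq`, `TY_eq` : `k = 2`: `YQ Z (i+1) = C(Z i)`, `TY S Z (i+1) = C_S(Z i)`;
* `NoW` : the literal of helper593 (`Y ≤ C_G(Z_l : l ≠ j)` is not weird); `weirdK_of` : `NoW ⇒ WeirdK S (o2 P) Z 0 1`;
* `qfr_of_mulL` : `QFr` over `MulL` from the weird socket `WeirdK S (o2 P) Z 0 1`;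
* **`kInX`** : `W i ≤ N_i` is impossible.
-/

set_option autoImplicit false
set_option linter.unusedSectionVars false

namespace Cfsg.Agent.Omega.KL.QF.KInX

open Subgroup Cfsg Cfsg.Agent.ZN.ChoiceBase
open Cfsg.Agent.ZN (jj zj bau zc zl o2)
open Cfsg.Agent.MinSimple.MinParabolic (IsMinPar)
open Cfsg.Agent.Omega.OM
open Cfsg.Agent.Omega.MinPar (NonLoc)
open Cfsg.Agent.Omega.NO3S.EThree.Frame
open Cfsg.Agent.Omega.NO3S.EThree.Row7 (vec2 fin2)
open Cfsg.Agent.Omega.EK3.Q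
open Cfsg.Agent.Omega.Node.MulG
open Cfsg.Agent.Omega.Node.MulX
open Cfsg.Agent.Omega.KL.Q
open KInG OfTop OfBg OfLev OfMul PtV

universe u

variable {G : Type u} [Group G]

theorem YQ_eq (Z : Fin 2 → Subgroup G) (i : Fin 2) : YQ Z (i + 1) = centralizer (Z i : Set G) := by
  apply le_antisymm
  · exact YQ_cent (by fin_cases i <;> decide)
  · refine le_iInf fun l => ?_
    have : (l : Fin 2) = i := by
      rcases l with ⟨l, hl⟩
      revert hl
      revert l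
      fin_cases i <;> decide
    rw [this]

variable [Finite G] {S : Sylow 2 G} {P B ZJ : Subgroup G}

theorem TY_eq (Z : Fin 2 → Subgroup G) (i : Fin 2) :
    TY S Z (i + 1) = (S : Subgroup G) ⊓ centralizer (Z i : Set G) := by
  rw [TY, YQ_eq]

/-- **`NoW`** at `j` (literal): the minimal parabolics over `T = C_S(Z_l : l ≠ j)` in `C_G(Z_l : l ≠ j)` which move
`Ω₁Z(T)` are not weird. -/
def NoW (S : Sylow 2 G) (P : Subgroup G) {k : ℕ} (Z : Fin k → Subgroup G) (j : Fin k) : Prop :=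
  ∀ R : Subgroup G, IsMinPar (TY S Z j) R → R ≤ YQ Z j → R ⊓ centralizer (o2 R : Set G) ≤ o2 R →
    ¬ R ≤ centralizer (zc (TY S Z j) : Set G) → o2 P ≤ o2 R

variable {L W Z C A : Fin 2 → Subgroup G} {q : ℕ}

/-- `WeirdK` from `NoW`. -/
theorem weirdK_of (h : Bg S P B ZJ L W Z C q) (hti : ∀ i, TI (Z i)) (hw : NoW S P Z 1) :
    WeirdK (S : Subgroup G) (o2 P) Z 0 1 := by
  obtain ⟨s, p⟩ := exists_pa h
  intro R hR hRC hne
  have e := TY_eq (S := S) Z 0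
  have hBT := B_le_T h 0
  have hc := char2 h (i := 0) (hBT.trans hR.le) hRC
  have hZ := not_cent h p (fun l => fin2 l) (hti 0) hne
  exact hw R (e.symm ▸ hR) ((YQ_eq Z 0).symm ▸ hRC) hc (e.symm ▸ hZ)

/-- **`QFr` over `MulL`.** -/
theorem qfr_of_mulL (h : MulL S P B ZJ L W Z C A q) (hti : ∀ i, TI (Z i))
    (hnl : NonLoc (normalizer (Z 0 : Set G)) (normalizer (Z 1 : Set G)))
    (hW : W 0 ≤ PG.NN Z (Z 0)) (hw : WeirdK (S : Subgroup G) (o2 P) Z 0 1) :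
    QFr Z W B ((S : Subgroup G) ⊓ centralizer (Z 0 : Set G)) := by
  obtain ⟨s, p⟩ := exists_pa h.bg
  have h1 := qfr_top h.bg p (fun l => fin2 l) (hti 0) hnl (by rw [vec2]; exact hW) h.cl.levQ le_rfl
    (top_caseL h.cl).nxt h.eZ h.eqB h.nat hw
  rwa [vec2, vec2] at h1

/-- the field `qfr` of `Row7B.MB` over `MulL` -/
theorem qfr_of_noW (h : MulL S P B ZJ L W Z C A q) (hti : ∀ i, TI (Z i))
    (hnl : NonLoc (normalizer (Z 0 : Set G)) (normalizer (Z 1 : Set G))) (hw : NoW S P Z 1)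
    (hW : W 0 ≤ PG.NN Z (Z 0)) : ∃ T : Subgroup G, QFr Z W B T :=
  ⟨_, qfr_of_mulL h hti hnl hW (weirdK_of h.bg hti hw)⟩

/-- **Row (7), (B), over `MulL`.** -/
theorem kInX (hML : ML.Final.MLK.{u, u}) (hE : ML.Ex.Two.Ext.{u, u}) (h : MulL S P B ZJ L W Z C A q) (hq : 4 ≤ q)
    (hti : ∀ i, TI (Z i)) (hnl : NonLoc (normalizer (Z 0 : Set G)) (normalizer (Z 1 : Set G)))
    (hW : W 0 ≤ PG.NN Z (Z 0)) (hw : NoW S P Z 1) : False :=
  false_of_bg h.bg hq hML (EndG.noPreG hML hE) (qfr_of_mulL h hti hnl hW (weirdK_of h.bg hti hw))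

end Cfsg.Agent.Omega.KL.QF.KInX

end
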