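import Cfsg.Agent.Mrg.Omega.OM.Lev.Uni
import Cfsg.Agent.Mrg.Omega.KL.QF.PtV
import Cfsg.Agent.Mrg.Omega.TC.UniLev
import Cfsg.Agent.Mrg.Omega.OM.Lev.Low.LowMain
import Cfsg.Agent.Mrg.Omega.OM.Lev.HUMul
import Cfsg.Agent.Mrg.Omega.NO3S.EThree.Row7
import Cfsg.Agent.Mrg.Omega.Node.MulG

-- merged: Cfsg.Agent.Mrg.Omega.KL.QF.FixX
section

/-!
# FIX-X at a level (#22723 (FIX-X), helper381; helper20)

* `fixX` : `FrL B Q V X ZJ L W Z C A q`, `n ∈ X ∩ Q`, `[n, Q] ≤ Z i` : `n ∈ V`.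
-/

set_option autoImplicit false
set_option maxHeartbeats 400000

namespace Cfsg.Agent.Omega.KL.QF.FixX

open Subgroup Cfsg Cfsg.Agent.ZN.ChoiceBase
open Cfsg.Agent.Omega.SQ1.Bau (mem_sup_comm card_sup_comm elem_comm elem_sq)
open Cfsg.Agent.Omega.OM.Uni Cfsg.Agent.Omega.OM.Lev.Uni
open scoped Pointwise

universe u

variable {G : Type u} [Group G]

/-- the homomorphism `x ↦ [x, e]` on an abelian normal subgroup, counted -/
theorem card_comm [Finite G] {X D R : Subgroup G} {e : G} (hX : ∀ x ∈ X, ∀ y ∈ X, x * y = y * x)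
    (he : ∀ x ∈ X, x * e * x⁻¹ * e⁻¹ ∈ X) (hD : D ≤ X) (hR : ∀ r ∈ R, ∃ x ∈ D, x * e * x⁻¹ * e⁻¹ = r) :
    Nat.card R * Nat.card ↥(D ⊓ centralizer {e}) ≤ Nat.card D := by
  classical
  let f : D →* G :=
    { toFun := fun x => (x : G) * e * (x : G)⁻¹ * e⁻¹
      map_one' := by simp
      map_mul' := by
        intro x y
        have h1 := he y (hD y.2)
        have h2 := hX _ (hD x.2) _ h1
        have h3 := hX _ h1 _ (he x (hD x.2))
        show (x : G) * y * e * ((x : G) * y)⁻¹ * e⁻¹ = (x : G) * e * (x : G)⁻¹ * e⁻¹ * ((y : G) * e * (y : G)⁻¹ * e⁻¹)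
        have e1 : (x : G) * y * e * ((x : G) * y)⁻¹ * e⁻¹ =
          (x * ((y : G) * e * (y : G)⁻¹ * e⁻¹)) * (e * (x : G)⁻¹ * e⁻¹) := by group
        rw [e1, h2, ← h3]
        group }
  have hf : ∀ x : D, f x = (x : G) * e * (x : G)⁻¹ * e⁻¹ := fun x => rfl
  have hker : ∀ x : D, x ∈ f.ker ↔ (x : G) ∈ D ⊓ centralizer {e} := by
    intro x
    rw [MonoidHom.mem_ker, hf, mem_inf, mem_centralizer_singleton_iff, mul_inv_eq_one, mul_inv_eq_iff_eq_mul]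
    exact ⟨fun h => ⟨x.2, h⟩, fun h => h.2⟩
  have h1 : Nat.card f.ker = Nat.card ↥(D ⊓ centralizer {e}) :=
    Nat.card_congr
      { toFun := fun x => ⟨x.1, (hker x.1).1 x.2⟩
        invFun := fun x => ⟨⟨x.1, x.2.1⟩, (hker _).2 x.2⟩
        left_inv := fun x => rfl
        right_inv := fun x => rfl }
  have h2 : Nat.card f.range = f.ker.index := by rw [Subgroup.index_ker]
  have h3 : R ≤ f.range := by
    intro r hr
    obtain ⟨x, hx, e⟩ := hR r hr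
    exact ⟨⟨x, hx⟩, e⟩
  have h4 := Subgroup.card_mul_index f.ker
  rw [h1, ← h2] at h4
  rw [← h4, mul_comm]
  exact Nat.mul_le_mul_left _ (Subgroup.card_le_of_le h3)

/-- the homomorphism `e ↦ [y, e]` into a group `x'` centralised by `E`, counted -/
theorem card_ker_le [Finite G] {E x' : Subgroup G} {y : G} (hx' : ∀ e ∈ E, y * e * y⁻¹ * e⁻¹ ∈ x')
    (hc : ∀ e ∈ E, ∀ x ∈ x', e * x = x * e) :
    Nat.card E ≤ Nat.card x' * Nat.card ↥(E ⊓ centralizer {y}) := by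
  classical
  let f : E →* G :=
    { toFun := fun x => y * (x : G) * y⁻¹ * (x : G)⁻¹
      map_one' := by simp
      map_mul' := by
        intro a b
        have h1 := hx' b b.2
        have h2 := hc a a.2 _ h1
        show y * ((a : G) * b) * y⁻¹ * ((a : G) * b)⁻¹ = y * (a : G) * y⁻¹ * (a : G)⁻¹ * (y * (b : G) * y⁻¹ * (b : G)⁻¹)
        have e1 : y * ((a : G) * b) * y⁻¹ * ((a : G) * b)⁻¹ =
          y * (a : G) * y⁻¹ * ((y * (b : G) * y⁻¹ * (b : G)⁻¹) * (a : G)⁻¹) := by group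
        have e2 : (y * (b : G) * y⁻¹ * (b : G)⁻¹) * (a : G)⁻¹ = (a : G)⁻¹ * (y * (b : G) * y⁻¹ * (b : G)⁻¹) :=
          (Commute.inv_left (show Commute (a : G) _ from h2)).symm
        rw [e1, e2]
        group }
  have hf : ∀ x : E, f x = y * (x : G) * y⁻¹ * (x : G)⁻¹ := fun x => rfl
  have hker : ∀ x : E, x ∈ f.ker ↔ (x : G) ∈ E ⊓ centralizer {y} := by
    intro x
    rw [MonoidHom.mem_ker, hf, mem_inf, mem_centralizer_singleton_iff, mul_inv_eq_one, mul_inv_eq_iff_eq_mul]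
    exact ⟨fun h => ⟨x.2, h.symm⟩, fun h => h.2.symm⟩
  have h1 : Nat.card f.ker = Nat.card ↥(E ⊓ centralizer {y}) :=
    Nat.card_congr
      { toFun := fun x => ⟨x.1, (hker x.1).1 x.2⟩
        invFun := fun x => ⟨⟨x.1, x.2.1⟩, (hker _).2 x.2⟩
        left_inv := fun x => rfl
        right_inv := fun x => rfl }
  have h2 : Nat.card f.range = f.ker.index := by rw [Subgroup.index_ker]
  have h3 : f.range ≤ x' := by
    rintro _ ⟨x, rfl⟩
    exact hx' x x.2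
  have h4 := Subgroup.card_mul_index f.ker
  rw [h1, ← h2] at h4
  rw [← h4, mul_comm]
  exact Nat.mul_le_mul_right _ (Subgroup.card_le_of_le h3)

variable {ι : Type*} {B Q V X ZJ : Subgroup G} {L W Z C A : ι → Subgroup G} {q : ℕ}

/-- `A i` is the full root group on `W i`. -/
theorem A_surj (h : FrL B Q V X ZJ L W Z C A q) [Finite G] {i : ι} {v : G} (hv : v ∈ W i) (hvZ : v ∉ Z i) {z : G}
    (hz : z ∈ Z i) : ∃ a ∈ A i, a * v * a⁻¹ * v⁻¹ = z := by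
  obtain ⟨R, h1, h2, -, h4⟩ := (h.blk i).toMd.relIndex_comm (h.AB i) hv hvZ
  have h5 := (h.A_full i).2.2
  rw [← h5] at h4
  have h6 : Nat.card R = q := Nat.eq_of_mul_eq_mul_right Nat.card_pos h4
  have h7 : R = Z i := Subgroup.eq_of_le_of_card_ge h1 (by rw [h6, h.cardZ])
  rw [← h7] at hz
  obtain ⟨x, hx, e⟩ := h2 z hz
  exact ⟨x, hx, e.symm⟩

/-- **FIX-X.** -/
theorem fixX (h : FrL B Q V X ZJ L W Z C A q) [Finite G] {i : ι} {n : G} (hn : n ∈ X) (hnQ : n ∈ Q)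
    (hc : ∀ b ∈ Q, n * b * n⁻¹ * b⁻¹ ∈ Z i) : n ∈ V := by
  obtain ⟨l, hl, hmv⟩ := h.exists_mv i
  have htri := h.tri' hl hmv
  have hBL := (h.blk i).BL
  have hAL : ∀ a ∈ A i, a ∈ L i := fun a ha => hBL (h.AB i ha)
  set x' : Subgroup G := cj l (Z i) with hx'
  have hxW : x' ≤ W i := by
    rintro _ ⟨z, hz, rfl⟩
    exact (h.blk i).nV l hl z ((h.blk i).ZV hz)
  set y : G := l * n * l⁻¹ with hy
  have hyX : y ∈ X := h.LX i l hl n hn
  have hyQ : y ∈ Q := h.LQ i l hl n hnQ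
  -- `[y, Q] ≤ x'`
  have hyc : ∀ b ∈ Q, y * b * y⁻¹ * b⁻¹ ∈ x' := by
    intro b hb
    have h1 : l⁻¹ * b * l ∈ Q := by
      have := h.LQ i l⁻¹ (inv_mem hl) b hb
      rwa [inv_inv] at this
    rw [hx', mem_cj]
    have e : l⁻¹ * (y * b * y⁻¹ * b⁻¹) * l = n * (l⁻¹ * b * l) * n⁻¹ * (l⁻¹ * b * l)⁻¹ := by rw [hy]; group
    rw [e]
    exact hc _ h1
  -- it is enough that `y ∈ V`
  suffices hyV : y ∈ V by
    have := h.LV i l⁻¹ (inv_mem hl) y hyV
    have e : l⁻¹ * y * l⁻¹⁻¹ = n := by rw [hy]; group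
    rwa [e] at this
  have hE0 : A i ⊓ Q = A i ⊓ centralizer (W i : Set G) := h.A_inf_Q i
  obtain ⟨hcut, hbest⟩ := h.cut i
  by_cases hφ : ∀ e ∈ A i ⊓ Q, e * y = y * e
  · -- `φ = 0`
    have h1 : y ∈ X ⊓ centralizer ((A i ⊓ Q : Subgroup G) : Set G) := ⟨hyX, mem_centralizer_iff.2 fun e he => hφ e he⟩
    rw [hcut] at h1
    obtain ⟨v, hv, c, hcc, hvc⟩ := mem_sup_comm (A := V) (B := X ⊓ centralizer (A i : Set G))
      (fun a ha b hb => h.Xc a (h.VX ha) b hb.1) h1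
    -- an element of `A i` moving `x'`
    have h2 := h.Ane i
    push Not at h2
    obtain ⟨a, ha, w₀, hw₀, hne⟩ := h2
    refine h.zcQ y hyQ (elem_sq h.elX y hyX) fun b hb => ?_
    have hyb := hyc b hb
    set δ := y * b * y⁻¹ * b⁻¹ with hδ
    -- `a y a⁻¹ = z y`
    set z := a * v * a⁻¹ * v⁻¹ with hz
    have hzZ : z ∈ Z i := h.A_comm ha hv
    have hay : a * y * a⁻¹ = z * y := by
      have h3 : a * c = c * a := mem_centralizer_iff.1 hcc.2 a ha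
      have e1 : a * (v * c) * a⁻¹ = a * v * a⁻¹ * v⁻¹ * (v * (a * c * a⁻¹)) := by group
      rw [hvc] at *
      rw [e1, h3, ← hz]; group
    -- `a⁻¹ b a ∈ Q`
    have hb' : a⁻¹ * b * a ∈ Q := by
      have := h.LQ i a⁻¹ (inv_mem (hAL a ha)) b hb
      rwa [inv_inv] at this
    have h4 := hyc _ hb'
    set δ' := y * (a⁻¹ * b * a) * y⁻¹ * (a⁻¹ * b * a)⁻¹ with hδ'
    have h5 : a * δ' * a⁻¹ = δ := by
      have e1 : a * δ' * a⁻¹ = (a * y * a⁻¹) * b * (a * y * a⁻¹)⁻¹ * b⁻¹ := by rw [hδ']; group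
      have e2 : z * (y * b * y⁻¹) * z⁻¹ = y * b * y⁻¹ := by
        have h6 : y * b * y⁻¹ ∈ Q := mul_mem (mul_mem hyQ hb) (inv_mem hyQ)
        rw [← h.cQ h6 (h.ZV i hzZ)]; group
      rw [e1, hay, hδ]
      have e3 : z * y * b * (z * y)⁻¹ * b⁻¹ = z * (y * b * y⁻¹) * z⁻¹ * b⁻¹ := by group
      rw [e3, e2]
    have h6 : a * δ' * a⁻¹ * δ'⁻¹ ∈ x' ⊓ Z i := by
      refine mem_inf.2 ⟨?_, (h.blk i).com a (h.AB i ha) _ (hxW h4)⟩
      rw [h5]
      exact mul_mem hyb (inv_mem h4)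
    rw [htri, mem_bot] at h6
    have h7 : a * δ' = δ' * a := mul_inv_eq_iff_eq_mul.1 (mul_inv_eq_one.1 h6)
    have h8 : δ' = 1 := by
      by_contra h1'
      have h9 : δ' ∉ Z i := fun hh => h1' (by
        have h10 : δ' ∈ x' ⊓ Z i := ⟨h4, hh⟩
        rwa [htri, mem_bot] at h10)
      exact hne ((h.blk i).free a (h.AB i ha) _ (hxW h4) h9 h7 _ hw₀)
    rw [h8] at h5
    have h9 : δ = 1 := by rw [← h5]; group
    exact mul_inv_eq_iff_eq_mul.1 (mul_inv_eq_one.1 h9)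
  · -- `φ ≠ 0`
    exfalso
    push Not at hφ
    obtain ⟨e, he, hne⟩ := hφ
    set F : Subgroup G := (A i ⊓ Q) ⊓ centralizer {y} with hF
    set D : Subgroup G := X ⊓ centralizer (F : Set G) with hD
    set δ := y * e * y⁻¹ * e⁻¹ with hδ
    have hδx : δ ∈ x' := hyc e he.2
    have hδ1 : δ ≠ 1 := by
      intro h1
      apply hne
      exact (mul_inv_eq_iff_eq_mul.1 (mul_inv_eq_one.1 h1)).symm
    have hδZ : δ ∉ Z i := by
      intro hh
      have h10 : δ ∈ x' ⊓ Z i := ⟨hδx, hh⟩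
      rw [htri, mem_bot] at h10
      exact hδ1 h10
    -- `[a y a⁻¹, e'] = a [y, e'] a⁻¹`
    have hae : ∀ a ∈ A i, ∀ e' ∈ A i, (a * y * a⁻¹) * e' * (a * y * a⁻¹)⁻¹ * e'⁻¹ = a * (y * e' * y⁻¹ * e'⁻¹) * a⁻¹ := by
      intro a ha e' he'
      have h1 := (h.AX i).comm a⁻¹ (inv_mem ha) e' he'
      set c := a⁻¹ * e' * a⁻¹⁻¹ * e'⁻¹ with hc'
      have h2 : y * c = c * y := mem_centralizer_iff.1 h1 y hyX
      have e1 : a⁻¹ * e' * a = c * e' := by rw [hc']; group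
      have e2 : (a * y * a⁻¹) * e' * (a * y * a⁻¹)⁻¹ * e'⁻¹ =
          a * (y * (a⁻¹ * e' * a) * y⁻¹ * (a⁻¹ * e' * a)⁻¹) * a⁻¹ := by group
      rw [e2, e1]
      have e3 : y * (c * e') * y⁻¹ * (c * e')⁻¹ = c * (y * e' * y⁻¹ * e'⁻¹) * c⁻¹ := by
        calc y * (c * e') * y⁻¹ * (c * e')⁻¹ = (y * c) * e' * y⁻¹ * (c * e')⁻¹ := by group
          _ = (c * y) * e' * y⁻¹ * (c * e')⁻¹ := by rw [h2]
          _ = _ := by group
      have hyeX : y * e' * y⁻¹ * e'⁻¹ ∈ X := by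
        have h3 : e' * y⁻¹ * e'⁻¹ ∈ X := h.LX i e' (hAL e' he') _ (inv_mem hyX)
        have e4 : y * e' * y⁻¹ * e'⁻¹ = y * (e' * y⁻¹ * e'⁻¹) := by group
        rw [e4]
        exact mul_mem hyX h3
      have h4 : (y * e' * y⁻¹ * e'⁻¹) * c = c * (y * e' * y⁻¹ * e'⁻¹) := mem_centralizer_iff.1 h1 _ hyeX
      rw [e3, ← h4]; group
    have hAX : A i ⊓ centralizer (X : Set G) ≤ A i ⊓ Q := by
      refine le_inf inf_le_left fun a ha => (h.mem_Q a (h.AB i ha.1)).2 fun v hv => ?_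
      exact (mem_centralizer_iff.1 ha.2 v (h.VX hv)).symm
    -- `y ^ a ∈ D`
    have hyD : ∀ a ∈ A i, a * y * a⁻¹ ∈ D := by
      intro a ha
      refine mem_inf.2 ⟨h.LX i a (hAL a ha) y hyX, mem_centralizer_iff.2 fun e' he' => ?_⟩
      obtain ⟨he1, he2⟩ := mem_inf.1 he'
      have h1 := hae a ha e' he1.1
      have h2 : y * e' * y⁻¹ * e'⁻¹ = 1 := by
        rw [← mem_centralizer_singleton_iff.1 he2]; group
      rw [h2, mul_one, mul_inv_cancel] at h1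
      exact (mul_inv_eq_iff_eq_mul.1 (mul_inv_eq_one.1 h1)).symm
    have hzδ : ∀ z ∈ Z i, z * δ = δ * z := fun z hz => (h.blk i).comm ((h.blk i).ZV hz) (hxW hδx)
    -- the image of `D` under `x ↦ [x, e]` contains `⟨δ⟩ × Z i`
    let im : Subgroup G :=
      { carrier := {r | ∃ x ∈ D, x * e * x⁻¹ * e⁻¹ = r}
        one_mem' := ⟨1, one_mem _, by simp⟩
        mul_mem' := by
          rintro a b ⟨x, hx, rfl⟩ ⟨y', hy', rfl⟩
          have heX : ∀ x ∈ X, x * e * x⁻¹ * e⁻¹ ∈ X := by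
            intro x hx
            have h3 : e * x⁻¹ * e⁻¹ ∈ X := h.LX i e (hAL e he.1) _ (inv_mem hx)
            have e4 : x * e * x⁻¹ * e⁻¹ = x * (e * x⁻¹ * e⁻¹) := by group
            rw [e4]
            exact mul_mem hx h3
          refine ⟨x * y', mul_mem hx hy', ?_⟩
          have h1 := heX y' hy'.1
          have h2 := h.Xc _ hx.1 _ h1
          have h3 := h.Xc _ h1 _ (heX x hx.1)
          have e1 : x * y' * e * (x * y')⁻¹ * e⁻¹ = (x * (y' * e * y'⁻¹ * e⁻¹)) * (e * x⁻¹ * e⁻¹) := by group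
          rw [e1, h2, ← h3]
          group
        inv_mem' := by
          rintro a ⟨x, hx, rfl⟩
          refine ⟨x⁻¹, inv_mem hx, ?_⟩
          have h3 : e * x⁻¹ * e⁻¹ ∈ X := h.LX i e (hAL e he.1) _ (inv_mem hx.1)
          have h4 := h.Xc _ (inv_mem hx.1) _ (h.LX i e (hAL e he.1) _ hx.1)
          have e1 : x⁻¹ * e * x⁻¹⁻¹ * e⁻¹ = x⁻¹ * (e * x * e⁻¹) := by group
          rw [e1, h4]
          group }
    have hδim : δ ∈ im := by
      refine ⟨y, ?_, rfl⟩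
      have := hyD 1 (one_mem _)
      rwa [one_mul, inv_one, mul_one] at this
    have hZim : Z i ≤ im := by
      intro z hz
      obtain ⟨a, ha, e1⟩ := A_surj h (hxW hδx) hδZ hz
      have h1 : a * δ * a⁻¹ ∈ im := ⟨a * y * a⁻¹, hyD a ha, hae a ha e he.1⟩
      have h2 : z = (a * δ * a⁻¹) * δ⁻¹ := e1.symm
      rw [h2]
      exact mul_mem h1 (inv_mem hδim)
    have hδ2 : δ ^ 2 = 1 := elem_sq (h.blk i).el δ (hxW hδx)
    have hcard : 2 * q ≤ Nat.card im := by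
      have h1 := card_sup_comm (A := zpowers δ) (B := Z i) (by
        intro a ha b hb
        obtain ⟨k, rfl⟩ := mem_zpowers_iff.1 ha
        exact (Commute.zpow_left (show Commute δ b from (hzδ b hb).symm) k).eq)
      have h2 : zpowers δ ⊓ Z i = ⊥ := by
        rw [eq_bot_iff, ← htri]
        exact inf_le_inf_right _ (by rw [zpowers_le]; exact hδx)
      rw [h2, card_bot, mul_one, Nat.card_zpowers, h.cardZ,
        orderOf_eq_prime hδ2 hδ1] at h1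
      rw [← h1]
      exact Subgroup.card_le_of_le (sup_le (by rw [zpowers_le]; exact hδim) hZim)
    have h1 : Nat.card im * Nat.card ↥(D ⊓ centralizer {e}) ≤ Nat.card D :=
      card_comm (X := X) h.Xc (fun x hx => by
        have h3 : e * x⁻¹ * e⁻¹ ∈ X := h.LX i e (hAL e he.1) _ (inv_mem hx)
        have e4 : x * e * x⁻¹ * e⁻¹ = x * (e * x⁻¹ * e⁻¹) := by group
        rw [e4]
        exact mul_mem hx h3) inf_le_left fun r hr => hr
    have h2 : X ⊓ centralizer ((A i ⊓ Q : Subgroup G) : Set G) ≤ D ⊓ centralizer {e} := by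
      refine le_inf (inf_le_inf_left _ (centralizer_le inf_le_left)) (inf_le_right.trans (centralizer_le ?_))
      simpa using he
    have h3 := Subgroup.card_le_of_le h2
    have h4 : Nat.card ↥(A i ⊓ Q) ≤ q * Nat.card F := by
      have := card_ker_le (E := A i ⊓ Q) (x' := x') (y := y) (fun e' he' => hyc e' he'.2)
        (fun e' he' x hx => h.cQ he'.2 (h.WV i (hxW hx)))
      rwa [hx', card_cj, h.cardZ] at this
    have h5 : Nat.card F * Nat.card D ≤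
        Nat.card ↥(A i ⊓ Q) * Nat.card ↥(X ⊓ centralizer ((A i ⊓ Q : Subgroup G) : Set G)) := by
      refine hbest F ?_ inf_le_left
      refine le_inf inf_le_left fun a ha => mem_centralizer_singleton_iff.2 ?_
      exact (mem_centralizer_iff.1 ha.2 y hyX).symm
    set a₁ := Nat.card ↥(X ⊓ centralizer ((A i ⊓ Q : Subgroup G) : Set G)) with ha₁
    have hp1 : 0 < a₁ := Nat.card_pos
    have hp2 : 0 < Nat.card F := Nat.card_pos
    have hq : 1 < q := (h.blk i).one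
    have h6 : 2 * q * a₁ ≤ Nat.card D :=
      (Nat.mul_le_mul hcard h3).trans h1
    have h7 : Nat.card F * (2 * q * a₁) ≤ q * Nat.card F * a₁ :=
      (Nat.mul_le_mul_left _ h6).trans (h5.trans (Nat.mul_le_mul_right _ h4))
    have h8 : Nat.card F * (2 * q * a₁) = 2 * (q * Nat.card F * a₁) := by ring
    have h9 : 0 < q * Nat.card F * a₁ := Nat.mul_pos (Nat.mul_pos (by omega) hp2) hp1
    omega

end Cfsg.Agent.Omega.KL.QF.FixX

end

-- merged: Cfsg.Agent.Mrg.Omega.KL.QF.OfLev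
section

section


/-!
# `QFr` at stage `n ≥ 0`, `q ≥ 4`, `k = 2` (#22723 "levels"; helper20)

* `Loc` : the standing facts on `R` over `T = C_S(Z i)` (any `LB`): Sylow, characteristic 2, `Ω₁Z(T)` is moved;
* `genU_lev`, `fixU_lev` : the hypotheses `GenU`, `FixU` of `OfBg.qfr_of` at stage `n`;
* `qfr_lev` : **`QFr ![Z i, Z j] ![W i, W j] B (C_S(Z i))` at stage `n ≥ 0`, `q > 2`.**
-/

set_option autoImplicit false
set_option linter.unusedSectionVars false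
set_option maxHeartbeats 400000

namespace Cfsg.Agent.Omega.KL.QF.OfLev

open Subgroup Cfsg Cfsg.Agent.ZN.ChoiceBase
open Cfsg.Agent.ZN (jj zj bau zc zl o2)
open Cfsg.Agent.ZN.ChoiceSit (Syl exists_syl syl_conj o2_le_syl)
open Cfsg.Agent.Omega.OM Cfsg.Agent.Omega.OM.Uni
open Cfsg.Agent.Omega.OM.UniPlus (NB)
open Cfsg.Agent.Omega.OM.LevD (LB)
open Cfsg.Agent.Omega.OM.Lev.Uni (FrL)
open Cfsg.Agent.Omega.OM.SwapL (Ln)
open Cfsg.Agent.Omega.NO3S.Level (lev lev_isLev lev_mono lev_le)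
open Cfsg.Agent.Omega.NO3S.EThree.Frame
open Cfsg.Agent.Omega.MinPar (NonLoc)
open Cfsg.Agent.MinSimple.MinParabolic (IsMinPar)
open Cfsg.Agent.MinSimple.VModule (le_normalizer_o2 o2_isPGroup le_o2 o2_le)
open PtV OfBg
open scoped Pointwise

universe u

variable {G : Type u} [Group G]

section

variable [Finite G] {S : Sylow 2 G} {P : Subgroup G} {ι : Type} [Finite ι] {B ZJ : Subgroup G}
  {L W Z C : ι → Subgroup G} {q : ℕ} (h : Bg S P B ZJ L W Z C q) {i j : ι} {s : G}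
  (p : Pa (S : Subgroup G) W i j s) (h2 : ∀ l : ι, l = i ∨ l = j)
  (hTI : TI (Z i))
include h

/-- `R` has characteristic 2 -/
theorem char2 {R : Subgroup G} (hBR : B ≤ R) (hRC : R ≤ centralizer (Z i : Set G)) :
    R ⊓ centralizer (o2 R : Set G) ≤ o2 R := by
  have h1 := h.char_Z i
  have h4 : o2 (normalizer (Z i : Set G)) ≤ o2 R :=
    le_o2 ((h.o2_le i).trans hBR) (o2_isPGroup _)
      ((hRC.trans (centralizer_le_normalizer _)).trans (le_normalizer_o2 _))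
  rintro x ⟨hx, hxc⟩
  exact h4 (h1 ⟨centralizer_le_normalizer _ (hRC hx), centralizer_le (by exact_mod_cast h4) hxc⟩)

include p h2 in
/-- a nontrivial `T`-fixed vector of `Z j` -/
theorem exists_fixed : ∃ x ∈ Z j, x ≠ 1 ∧ x ∈ zc ((S : Subgroup G) ⊓ centralizer (Z i : Set G)) := by
  set T : Subgroup G := (S : Subgroup G) ⊓ centralizer (Z i : Set G) with hT
  have hZT : Z j ≤ T := ((h.fr.blk j).ZV.trans (W_le_B h j)).trans (B_le_T h i)
  have hne : ¬ Z j ≤ (⊥ : Subgroup G) := fun e => h.Z_ne j (le_bot_iff.1 e)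
  obtain ⟨x, hx, hx1, hfix⟩ := exists_fix_mod (X := T) (T := Z j) (K := ⊥) (S.isPGroup'.to_le inf_le_left) hZT
    (T1 h p h2) (fun t _ => by
      rw [mem_normalizer_iff]
      intro y
      simp only [mem_bot]
      exact (conj_eq_one_iff).symm) hne
  refine ⟨x, hx, fun e => hx1 (by rw [e]; exact one_mem _), mem_zc.2 ⟨hZT hx, h.fr.Vsq (h.fr.ZV j hx), fun t ht => ?_⟩⟩
  have h3 := hfix t ht
  rw [mem_bot] at h3
  exact mul_inv_eq_iff_eq_mul.1 (mul_inv_eq_one.1 h3)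

include p h2 hTI in
/-- `R` moves `Ω₁Z(T)` -/
theorem not_cent {R : Subgroup G} (hne : ¬ R ≤ normalizer (Z j : Set G)) :
    ¬ R ≤ centralizer (zc ((S : Subgroup G) ⊓ centralizer (Z i : Set G)) : Set G) := by
  obtain ⟨x, hx, hx1, hxT⟩ := exists_fixed h p h2
  intro hc
  apply hne
  intro r hr
  refine mem_normalizer_iff_cj.2 (ti h hTI (i := i) (j := j) (x := x) ((ptj h p).conj r) (ptj h p) ?_ hx hx1)
  rw [mem_cj]
  have h3 := mem_centralizer_iff.1 (hc hr) x hxT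
  have e : r⁻¹ * x * r = x := by rw [mul_assoc, h3]; group
  rwa [e]

include p h2 hTI in
/-- a group normalising `Z_J` and centralising `Z i` normalises `Z j` -/
theorem nor_Zj {R : Subgroup G} (hRC : R ≤ centralizer (Z i : Set G)) (hRJ : R ≤ normalizer (ZJ : Set G)) :
    R ≤ normalizer (Z j : Set G) := by
  intro r hr
  obtain ⟨x, hx, hx1⟩ : ∃ x ∈ Z j, x ≠ 1 := by
    by_contra hcon
    push Not at hcon
    exact h.Z_ne j ((eq_bot_iff_forall _).2 hcon)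
  have h3 : r * x * r⁻¹ ∈ ZJ := (mem_normalizer_iff.1 (hRJ hr) x).1 (h.fr.Z_le j hx)
  have h4 : r * x * r⁻¹ ∈ cj r (Z j) := ⟨x, hx, rfl⟩
  have hx1' : r * x * r⁻¹ ≠ 1 := fun e => hx1 (conj_eq_one_iff.1 e)
  obtain ⟨l, hl⟩ := h.fus (i := i) (x := r * x * r⁻¹) (g := r * s) h3 (by
    have e : (r * s)⁻¹ * (r * x * r⁻¹) * (r * s) = s⁻¹ * x * s := by group
    rw [e, ← mem_cj, h.cj_s_Z p]
    exact hx)
  rcases h2 l with rfl | rfl
  · -- `r x r⁻¹ ∈ Z i`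
    exfalso
    have h5 := mem_centralizer_iff.1 (hRC hr) _ hl
    have h6 : r * x * r⁻¹ = x := by
      have h7 : r * x * r⁻¹ * r = r * (r * x * r⁻¹) := h5
      have h8 : r * x = r * (r * x * r⁻¹) := by
        calc r * x = r * x * r⁻¹ * r := by group
          _ = _ := h7
      exact (mul_left_cancel h8).symm
    rw [h6] at hl
    have h7 : x ∈ Z l ⊓ Z j := ⟨hl, hx⟩
    rw [h.Z_disj p.ne, mem_bot] at h7
    exact hx1 h7
  · exact mem_normalizer_iff_cj.2 (ti h hTI (i := i) (j := l) (x := r * x * r⁻¹) ((ptj h p).conj r) (ptj h p) h4 hl hx1')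

/-! ### Stage `n` -/

variable {n : ℕ} {A : ι → Subgroup G}

include p h2 hTI in
theorem lev_facts (eqZ : ZJ = zc (lev (S : Subgroup G) (n + 1)))
    (eqB : B = (S : Subgroup G) ⊓ centralizer (zc (lev (S : Subgroup G) (n + 1)) : Set G))
    (hn : lev (S : Subgroup G) n ≤ o2 P) (hF : FrL B (o2 P) (zl (S : Subgroup G) P) (zc (lev (S : Subgroup G) n)) ZJ
      L W Z C A q) (hq : 2 < q) {R : Subgroup G} (hR : IsMinPar ((S : Subgroup G) ⊓ centralizer (Z i : Set G)) R)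
    (hRC : R ≤ centralizer (Z i : Set G)) (hne : ¬ R ≤ normalizer (Z j : Set G)) :
    Syl ((S : Subgroup G) ⊓ centralizer (Z i : Set G)) R ∧ R ⊓ centralizer (o2 R : Set G) ≤ o2 R ∧
      ¬ R ≤ centralizer (zc ((S : Subgroup G) ⊓ centralizer (Z i : Set G)) : Set G) ∧
      lev (S : Subgroup G) n ≤ o2 R ∧ ¬ lev (S : Subgroup G) (n + 1) ≤ o2 R := by
  have hBT := B_le_T h i
  have hS : Syl ((S : Subgroup G) ⊓ centralizer (Z i : Set G)) R :=
    ⟨hR.le, S.isPGroup'.to_le inf_le_left, fun Q hQ h3 hle => (syl_T h i).2.2 Q (hQ.trans hRC) h3 hle⟩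
  have hc := char2 h (i := i) (hBT.trans hR.le) hRC
  have hZ := not_cent h p h2 hTI hne
  subst eqZ
  subst eqB
  have hL : Ln S P n L W Z C A q := ⟨h.hyp, hn, hF, h.two⟩
  refine ⟨hS, hc, hZ, Lev.Low.low_four hL hq hS hBT hR hc hZ, fun hn1 => hne ?_⟩
  refine nor_Zj h p h2 hTI hRC ?_
  exact (le_normalizer_o2 R).trans ((LB.lev S (n + 1)).nrm _ (o2_isPGroup R) hn1)

include p h2 hTI in
theorem genU_lev (eqZ : ZJ = zc (lev (S : Subgroup G) (n + 1)))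
    (eqB : B = (S : Subgroup G) ⊓ centralizer (zc (lev (S : Subgroup G) (n + 1)) : Set G))
    (hn : lev (S : Subgroup G) n ≤ o2 P) (hF : FrL B (o2 P) (zl (S : Subgroup G) P) (zc (lev (S : Subgroup G) n)) ZJ
      L W Z C A q) (hq : 2 < q) : GenU (S : Subgroup G) B ZJ W Z q i j := by
  intro R hR hRC hne
  obtain ⟨hS, hc, hZ, hK, hn1⟩ := lev_facts h p h2 hTI eqZ eqB hn hF hq hR hRC hne
  have hB : LevB.BL (S : Subgroup G) (n + 1) = B := eqB.symm
  have hBT := B_le_T h i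
  obtain ⟨L', V', h3, ⟨h4, h5⟩, h6⟩ := LevB.exists_fblk S hS (hB.le.trans hBT) hR hc hK hn1 hZ
  rw [hB] at h4 h5
  obtain ⟨-, -, l, -, h7, h8, -⟩ := TC.UniLev.uni_all S eqZ eqB hF (L' := L') (V' := V') ⟨h4, h5⟩
  exact ⟨L', V', l, h3, h6, h7, h8⟩

include p h2 hTI in
theorem fixU_lev (eqZ : ZJ = zc (lev (S : Subgroup G) (n + 1)))
    (eqB : B = (S : Subgroup G) ⊓ centralizer (zc (lev (S : Subgroup G) (n + 1)) : Set G))
    (hn : lev (S : Subgroup G) n ≤ o2 P) (hF : FrL B (o2 P) (zl (S : Subgroup G) P) (zc (lev (S : Subgroup G) n)) ZJ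
      L W Z C A q) (hq : 2 < q) : FixU (S : Subgroup G) P W Z i j := by
  intro R hR hRC hne r hr w hw hwQ hwc
  obtain ⟨hS, hc, hZ, hK, hn1⟩ := lev_facts h p h2 hTI eqZ eqB hn hF hq hR hRC hne
  have hRX : R ≤ normalizer (zc (lev (S : Subgroup G) n) : Set G) :=
    (le_normalizer_o2 R).trans ((LB.lev S n).nrm _ (o2_isPGroup R) hK)
  exact FixX.fixX hF ((mem_normalizer_iff.1 (hRX hr) w).1 (hF.VX (hF.WV i hw))) hwQ hwc

/-- **`QFr` at stage `n`.** -/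
theorem qfr_lev {i j : ι} {s : G} (p : Pa (S : Subgroup G) W i j s) (h2 : ∀ l : ι, l = i ∨ l = j)
    (eqZ : ZJ = zc (lev (S : Subgroup G) (n + 1)))
    (eqB : B = (S : Subgroup G) ⊓ centralizer (zc (lev (S : Subgroup G) (n + 1)) : Set G))
    (hn : lev (S : Subgroup G) n ≤ o2 P) (hF : FrL B (o2 P) (zl (S : Subgroup G) P) (zc (lev (S : Subgroup G) n)) ZJ
      L W Z C A q) (hq : 2 < q) (hTI : TI (Z i))
    (hnl : NonLoc (normalizer (Z i : Set G)) (normalizer (Z j : Set G)))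
    (self : W i ≤ PG.NN ![Z i, Z j] (Z i)) :
    QFr ![Z i, Z j] ![W i, W j] B ((S : Subgroup G) ⊓ centralizer (Z i : Set G)) :=
  qfr_of h p h2 hTI hnl self (genU_lev h p h2 hTI eqZ eqB hn hF hq) (fixU_lev h p h2 hTI eqZ eqB hn hF hq)

end

end Cfsg.Agent.Omega.KL.QF.OfLev

end

section


/-!
# `QFr` over `Mul`, `k = 2`, `q ≥ 4`, every stage (helper20)

* `GenV` : `GenU` with `V' ≤ V_P` in place of `V' ≤ W l Z_J`; `genU_of` : `GenV` gives `GenU`;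
* `genV_lev` : `GenV` for `Mul` at stage `n ≥ 0`; `fixU_of` : `FixU` for `Mul`, every stage;
* `NegV` : `GenV` at stage `-1`; `qfr_mq` : **`MQ`, `W 0 ≤ N_0`, `NegV` give `QFr Z W B T`.**
-/

set_option autoImplicit false
set_option linter.unusedSectionVars false
set_option maxHeartbeats 400000

namespace Cfsg.Agent.Omega.KL.QF.OfMul

open Subgroup Cfsg Cfsg.Agent.ZN.ChoiceBase
open Cfsg.Agent.ZN (jj zj bau zc zl o2)
open Cfsg.Agent.ZN.ChoiceSit (Syl exists_syl syl_conj o2_le_syl)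
open Cfsg.Agent.Omega.OM Cfsg.Agent.Omega.OM.Uni
open Cfsg.Agent.Omega.OM.UniPlus (NB)
open Cfsg.Agent.Omega.OM.LevD (LB)
open Cfsg.Agent.Omega.OM.Lev.Uni (FrL)
open Cfsg.Agent.Omega.OM.SwapL (Ln)
open Cfsg.Agent.Omega.NO3S.Level (lev lev_isLev lev_mono lev_le)
open Cfsg.Agent.Omega.NO3S.EThree.Frame
open Cfsg.Agent.Omega.NO3S.EThree.NonLocQ (BlkU blkU_of)
open Cfsg.Agent.Omega.NO3S.EThree.Row7
open Cfsg.Agent.Omega.Node.MultiOf
open Cfsg.Agent.Omega.MinPar (NonLoc)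
open Cfsg.Agent.MinSimple.MinParabolic (IsMinPar)
open Cfsg.Agent.MinSimple.VModule (le_normalizer_o2 o2_isPGroup le_o2 o2_le)
open PtV OfBg OfLev
open scoped Pointwise

universe u

variable {G : Type u} [Group G]

/-- `GenU` with `V' ≤ V`. -/
def GenV (S : Subgroup G) (B V : Subgroup G) {ι : Type} (Z : ι → Subgroup G) (q : ℕ) (i j : ι) : Prop :=
  ∀ R : Subgroup G, IsMinPar (S ⊓ centralizer (Z i : Set G)) R → R ≤ centralizer (Z i : Set G) →
    ¬ R ≤ normalizer (Z j : Set G) → ∃ (L' V' : Subgroup G) (l : ι), L' ≤ R ∧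
      R ≤ (S ⊓ centralizer (Z i : Set G)) ⊔ L' ∧ NB B L' V' (Z l) q ∧ V' ≤ V

section

variable [Finite G] {S : Sylow 2 G} {P : Subgroup G} {ι : Type} [Finite ι] {B ZJ : Subgroup G}
  {L W Z C : ι → Subgroup G} {q : ℕ} (h : Bg S P B ZJ L W Z C q) {i j : ι} {s : G}
  (p : Pa (S : Subgroup G) W i j s) (h2 : ∀ l : ι, l = i ∨ l = j)
include h p h2

theorem genU_of (hg : GenV (S : Subgroup G) B (zl (S : Subgroup G) P) Z q i j) :
    GenU (S : Subgroup G) B ZJ W Z q i j := by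
  intro R hR hRC hne
  obtain ⟨L', V', l, hLR, hRL, hb, hV⟩ := hg R hR hRC hne
  refine ⟨L', V', l, hLR, hRL, hb, ?_⟩
  have hl : l = j := by
    rcases h2 l with rfl | rfl
    · exfalso
      apply h.Z_ne l
      rw [eq_bot_iff]
      intro z hz
      exact mem_bot.2 (hb.cent hz fun x hx => (mem_centralizer_iff.1 (hRC (hLR hx)) z hz).symm)
    · rfl
  subst hl
  obtain ⟨k, hk, hs, -⟩ := hb.spl
  have h3 : cj k (Z l) ≤ zl (S : Subgroup G) P := (hb.cjV hk).trans hV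
  rcases le_or h p h2 h3 (fun x hx => ⟨k * s, by
    have e : (k * s)⁻¹ * x * (k * s) = s⁻¹ * (k⁻¹ * x * k) * s := by group
    rw [e, ← mem_cj, h.cj_s_Z p]
    exact mem_cj.1 hx⟩) with h4 | h4
  · exfalso
    obtain ⟨b, hbB, v, hv, hbv⟩ := hb.ne
    apply hbv
    rw [hs] at hv
    obtain ⟨z, hz, c, hc, rfl⟩ := SQ1.Bau.mem_sup_comm
      (fun a ha b hb' => hb.comm (hb.ZV ha) (hb.cjV hk hb')) hv
    have c1 : Commute b z := hb.cZ b hbB z hz
    have c2 : Commute b c := by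
      have h5 : b * c * b⁻¹ * c⁻¹ ∈ Z i ⊓ Z l :=
        mem_inf.2 ⟨(h.fr.blk i).com b hbB c (h4 hc), hb.com b hbB c (hb.cjV hk hc)⟩
      rw [h.Z_disj p.ne, mem_bot] at h5
      exact mul_inv_eq_iff_eq_mul.1 (mul_inv_eq_one.1 h5)
    exact (c1.mul_right c2).eq
  · rw [hs]
    exact (sup_le (h.fr.blk l).ZV h4).trans le_sup_left

end

section mul

variable [Finite G] {S : Sylow 2 G} {P K' B ZJ : Subgroup G} {k : ℕ} {L W Z C : Fin k → Subgroup G} {q : ℕ}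

/-- **`FixU` for `Mul`**, given that `R` normalises `Ω₁(Z(lev n))` at stage `n`. -/
theorem fixU_of (h : Mul S P K' B ZJ L W Z C q) (hk : 2 ≤ k) {i j : Fin k}
    (hX : ∀ n, lev (S : Subgroup G) n ≤ o2 P → K' = lev (S : Subgroup G) (n + 1) → ∀ R : Subgroup G,
      IsMinPar ((S : Subgroup G) ⊓ centralizer (Z i : Set G)) R → R ≤ centralizer (Z i : Set G) →
        ¬ R ≤ normalizer (Z j : Set G) → R ≤ normalizer (zc (lev (S : Subgroup G) n) : Set G)) :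
    FixU (S : Subgroup G) P W Z i j := by
  intro R hR hRC hne r hr w hw hwQ hwc
  refine HUMul.fixS h hk i hwQ ?_ (fun n hn hK => ?_) fun o ho => ?_
  · have h1 := SQ1.Bau.elem_sq h.bg.fr.el w (h.bg.fr.WV i hw)
    have e : (r * w * r⁻¹) ^ 2 = r * w ^ 2 * r⁻¹ := by rw [pow_two, pow_two]; group
    rw [e, h1]; group
  · exact (mem_normalizer_iff.1 (hX n hn hK R hR hRC hne hr) w).1
      (HUMul.V_le_X h hn (h.bg.fr.WV i hw))
  · have h1 := inv_mem (hwc o ho)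
    have e : (r * w * r⁻¹ * o * (r * w * r⁻¹)⁻¹ * o⁻¹)⁻¹ = o * (r * w * r⁻¹) * o⁻¹ * (r * w * r⁻¹)⁻¹ := by group
    rwa [e] at h1

end mul

section mq

variable [Finite G] {S : Sylow 2 G} {P K' B ZJ : Subgroup G} {L W Z C : Fin 2 → Subgroup G} {q : ℕ}

/-- the facts on `R` at stage `n` -/
theorem facts_lev (h : MQ S P K' B ZJ L W Z C q) {s : G} (p : Pa (S : Subgroup G) W 0 1 s) {n : ℕ}
    (hn : lev (S : Subgroup G) n ≤ o2 P) (hn1 : ¬ lev (S : Subgroup G) (n + 1) ≤ o2 P)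
    (eqZ : ZJ = zc (lev (S : Subgroup G) (n + 1)))
    (eqB : B = (S : Subgroup G) ⊓ centralizer (zc (lev (S : Subgroup G) (n + 1)) : Set G)) {R : Subgroup G}
    (hR : IsMinPar ((S : Subgroup G) ⊓ centralizer (Z 0 : Set G)) R)
    (hRC : R ≤ centralizer (Z 0 : Set G)) (hne : ¬ R ≤ normalizer (Z 1 : Set G)) :
    Syl ((S : Subgroup G) ⊓ centralizer (Z 0 : Set G)) R ∧ R ⊓ centralizer (o2 R : Set G) ≤ o2 R ∧
      ¬ R ≤ centralizer (zc ((S : Subgroup G) ⊓ centralizer (Z 0 : Set G)) : Set G) ∧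
      lev (S : Subgroup G) n ≤ o2 R ∧ ¬ lev (S : Subgroup G) (n + 1) ≤ o2 R := by
  have hBT := B_le_T h.bg 0
  have hS : Syl ((S : Subgroup G) ⊓ centralizer (Z 0 : Set G)) R :=
    ⟨hR.le, S.isPGroup'.to_le inf_le_left, fun Q hQ h3 hle => (syl_T h.bg 0).2.2 Q (hQ.trans hRC) h3 hle⟩
  have hc := char2 h.bg (i := 0) (hBT.trans hR.le) hRC
  have hZ := not_cent h.bg p (fun l => fin2 l) (h.ti 0) hne
  obtain ⟨F, _, _, _, e, ⟨N⟩⟩ := h.mul.nat
  have hq := h.hq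
  obtain ⟨M, L₁, Z₁, A₁, -, hF, -⟩ := Lev.Main.bg_lev h.mul.hyp.toHypN hn hn1 le_rfl N eqB
  have hL : Ln S P n L₁ _ Z₁ _ A₁ (Nat.card F) := ⟨h.mul.hyp.toHypN, hn, eqB ▸ hF, fun i => exists_ne i⟩
  refine ⟨hS, hc, hZ, Lev.Low.low_four hL (by omega) hS (eqB.ge.trans hBT) hR hc hZ, fun h1 => hne ?_⟩
  refine nor_Zj h.bg p (fun l => fin2 l) (h.ti 0) hRC ?_
  rw [eqZ]
  exact (le_normalizer_o2 R).trans ((LB.lev S (n + 1)).nrm _ (o2_isPGroup R) h1)

/-- **`GenV` at stage `n`.** -/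
theorem genV_lev (h : MQ S P K' B ZJ L W Z C q) {s : G} (p : Pa (S : Subgroup G) W 0 1 s) {n : ℕ}
    (hn : lev (S : Subgroup G) n ≤ o2 P) (hn1 : ¬ lev (S : Subgroup G) (n + 1) ≤ o2 P)
    (eqZ : ZJ = zc (lev (S : Subgroup G) (n + 1)))
    (eqB : B = (S : Subgroup G) ⊓ centralizer (zc (lev (S : Subgroup G) (n + 1)) : Set G)) :
    GenV (S : Subgroup G) B (zl (S : Subgroup G) P) Z q 0 1 := by
  intro R hR hRC hne
  obtain ⟨hS, hc, hZ, hK, hK1⟩ := facts_lev h p hn hn1 eqZ eqB hR hRC hne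
  have hB : LevB.BL (S : Subgroup G) (n + 1) = B := eqB.symm
  have hBT := B_le_T h.bg 0
  obtain ⟨L', V', h3, ⟨h4, h5⟩, h6⟩ := LevB.exists_fblk S hS (hB.le.trans hBT) hR hc hK hK1 hZ
  rw [hB] at h4 h5
  have hbl : FBl B L' V' := ⟨h4, h5⟩
  obtain ⟨l, h7, -⟩ := blkU_of le_rfl h.mul L' V' hbl
  refine ⟨L', V', l, h3, h6, ⟨h7, h.bg.fr.cardZ l⟩, ?_⟩
  obtain ⟨F, _, _, _, e, ⟨N⟩⟩ := h.mul.nat
  obtain ⟨M, L₁, Z₁, A₁, -, hF, -⟩ := Lev.Main.bg_lev h.mul.hyp.toHypN hn hn1 le_rfl N eqB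
  obtain ⟨-, -, l', -, -, h8, -⟩ := TC.UniLev.uni_all S rfl eqB hF hbl
  exact h8.trans (sup_le (hF.WV l') hF.ZJV)

/-- **`GenV` at stage `-1`** -/
def NegV (S : Sylow 2 G) (P B : Subgroup G) (Z : Fin 2 → Subgroup G) (q : ℕ) : Prop :=
  ¬ jj (S : Subgroup G) ≤ o2 P → B = bau (S : Subgroup G) → GenV (S : Subgroup G) B (zl (S : Subgroup G) P) Z q 0 1

/-- **`QFr` for `MQ`**, every stage. -/
theorem qfr_mq (h : MQ S P K' B ZJ L W Z C q) (hW : W 0 ≤ Nn Z 0) (hneg : NegV S P B Z q) :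
    QFr Z W B ((S : Subgroup G) ⊓ centralizer (Z 0 : Set G)) := by
  obtain ⟨s, p⟩ := h.exists_pa
  have hg : GenV (S : Subgroup G) B (zl (S : Subgroup G) P) Z q 0 1 := by
    cases h.mul.stg with
    | neg hj => exact hneg hj rfl
    | lev n hall hn hn1 => exact genV_lev h p hn hn1 rfl rfl
  have hf : FixU (S : Subgroup G) P W Z 0 1 := by
    refine fixU_of h.mul le_rfl fun n hn hK R hR hRC hne => ?_
    have hlev : lev (S : Subgroup G) n ≤ o2 R := by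
      cases h.mul.stg with
      | neg hj => exact absurd ((lev_mono (S : Subgroup G) (Nat.zero_le n)).trans hn) hj
      | lev m hall hm hm1 =>
        have hnm : n ≤ m := by
          by_contra hnm
          exact hm1 ((lev_mono (S : Subgroup G) (by omega : m + 1 ≤ n)).trans hn)
        exact (lev_mono (S : Subgroup G) hnm).trans (facts_lev h p hm hm1 rfl rfl hR hRC hne).2.2.2.1
    exact (le_normalizer_o2 R).trans ((LB.lev S n).nrm _ (o2_isPGroup R) hlev)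
  have h1 := qfr_of h.bg p (fun l => fin2 l) (h.ti 0) h.nonloc (by rw [vec2]; exact hW)
    (genU_of h.bg p (fun l => fin2 l) hg) hf
  rwa [vec2, vec2] at h1

end mq

end Cfsg.Agent.Omega.KL.QF.OfMul

end

section


/-!
# `QFr` over a general top level `K₀` (`Top S P K₀`, `MulG`): `k = 2`, any `q` (helper20)

* `lev_T`, `bz_top`, `exists_fblk` : `LevB.exists_fblk` for every level `K₀` (`Lev S K₀`) with `K₀ ≤ O₂(H)`; moreover
  `V ≤ Ω₁(Z(K₀))`;
* `Top.exists_BO`, `exists_frL` : the frame `FrL` over `X = Ω₁(Z(K₀))`; `match_Z` : two frames have the same `Z i`;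
* `uni_top` : UNI+ for the blocks with `V' ≤ Ω₁(Z(K₀))`; `fix_top` : FIX-X;
* `WeirdK` : the socket: the minimal parabolics over `T = C_S(Z i)` in `C(Z i)` which move `Z j` have `K₀ ≤ O₂(R)`;
* `genV_top`, `fixU_top`, `qfr_top` : **`QFr` from `Bg`, `Top`, `WeirdK`**.
-/

set_option autoImplicit false
set_option linter.unusedSectionVars false
set_option maxHeartbeats 400000

namespace Cfsg.Agent.Omega.KL.QF.OfTop

open Subgroup Cfsg Cfsg.Agent.ZN.ChoiceBase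
open Cfsg.Agent.ZN (jj zj bau zc zl o2)
open Cfsg.Agent.ZN.ChoiceSit (Syl exists_syl syl_conj o2_le_syl syl_not_dvd isPGroup_o2)
open Cfsg.Agent.Omega.OM Cfsg.Agent.Omega.OM.Uni
open Cfsg.Agent.Omega.OM.UniPlus (NB)
open Cfsg.Agent.Omega.OM.LevD (LB)
open Cfsg.Agent.Omega.OM.GLev
open Cfsg.Agent.Omega.OM.LevB (FBlk)
open Cfsg.Agent.Omega.OM.Lev.Uni (FrL)
open Cfsg.Agent.Omega.FFThm (NatKM SymKM OffM NoOverM)
open Cfsg.Agent.Omega.FrameFF (cv)
open Cfsg.Agent.Omega.NO3S (HypN)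
open Cfsg.Agent.Omega.NO3S.Level (lev nxt Lev BO le_nxt nxt_le le_centralizer_zc normalizer_le_zc wc_nxt)
open Cfsg.Agent.Omega.NO3S.EThree.Frame
open Cfsg.Agent.Omega.Node.MultiOf (FBl)
open Cfsg.Agent.Omega.Node.MulG (Top lb_nxt)
open Cfsg.Agent.Omega.MinPar (NonLoc)
open Cfsg.Agent.MinSimple.MinParabolic (IsMinPar)
open Cfsg.Agent.MinSimple.VModule (le_normalizer_o2 le_o2 o2_le)
open PtV OfBg OfLev OfMul
open scoped Pointwise commutatorElement

universe u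

variable {G : Type u} [Group G] [Finite G]

/-! ### Blocks over a general level -/

section blk

variable {T H : Subgroup G}

/-- A level of `S` is a level of every 2-group over it. -/
theorem lev_T (S : Sylow 2 G) {K : Subgroup G} (hL : Lev (S : Subgroup G) K) (hT : IsPGroup 2 T) (hle : K ≤ T) :
    Lev T K where
  le := hle
  jjle := by
    rw [MinSimple.EmptyTI.jj_eq S hT (hL.jjle.trans hle)]
    exact hL.jjle
  norm := fun _ h1 h2 _ hg =>
    mem_normalizer_iff_cj.2 (LevD.norm_of_wc (Lev.Wc.wc_Lev hL) (hT.to_le h2) h1 hg)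

theorem lb_top (S : Sylow 2 G) {K B : Subgroup G} (hL : Lev (S : Subgroup G) K)
    (eqB : B = (S : Subgroup G) ⊓ centralizer (zc (nxt (S : Subgroup G) K) : Set G)) :
    LB S (nxt (S : Subgroup G) K) B (zc (nxt (S : Subgroup G) K)) := by
  subst eqB
  exact lb_nxt (Lev.Wc.wc_Lev hL)

/-- `BZ` at the level `K`. -/
theorem bz_top (S : Sylow 2 G) {K B : Subgroup G} (hL : Lev (S : Subgroup G) K)
    (eqB : B = (S : Subgroup G) ⊓ centralizer (zc (nxt (S : Subgroup G) K) : Set G)) (hT : IsPGroup 2 T)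
    (hB : B ≤ T) : BZ T (zc K) (BO T K) B (zc (nxt (S : Subgroup G) K)) := by
  have hb := lb_top S hL eqB
  have hle := hb.KB.trans hB
  refine
    { mem_ZJ := fun z => ?_
      eqB := (hb.inf_eq hT hB).symm
      zcB := ?_
      wn := fun R hR hBR => hb.two_le hR hBR
      sylB := fun R hR hBR hRc => hb.syl.2.2 R hRc hR hBR }
  · rw [← LevD.nxt_eq (Lev.Wc.wc_Lev hL) (Lev.Wc.wc_Lev hL.next) hT hle]
    exact zc_nxt (lev_T S hL hT ((le_nxt hL.le).trans hle))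
  · ext z
    constructor
    · intro hz
      obtain ⟨h1, h2, h3⟩ := mem_zc.1 hz
      exact hL.next.mem_of_comm (hb.BS h1) h2 fun y hy => h3 y (hb.KB hy)
    · intro hz
      exact mem_zc.2 ⟨hb.ZB hz, hb.sq z hz, fun y hy => (mem_centralizer_iff.1 (hb.Bc hy) z hz).symm⟩

/-- The module of a block `L ≤ N(X)`, `Ω₁Z(B) ≤ X`, is in `X`. -/
theorem blk_le {B L V X : Subgroup G} (h : FBlk B L V) (hX : L ≤ normalizer (X : Set G)) (hzX : zc B ≤ X) : V ≤ X := by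
  obtain ⟨⟨Z, q, hF⟩, -⟩ := h
  obtain ⟨l, hl, hs⟩ := hF.sup
  have h1 : ⁅V, B⁆ ≤ X := ((hF.comm_le le_rfl).trans (UniPlus.Z_le_zc hF.toMd)).trans hzX
  refine hs.trans (sup_le h1 ?_)
  have h2 := cj_mono l h1
  rwa [cj_eq_of_mem_normalizer (hX hl)] at h2

/-- **A block `L` over `B` with `H = ⟨T, L⟩`, `V ≤ Ω₁(Z(K))`.** -/
theorem exists_fblk (S : Sylow 2 G) {K B : Subgroup G} (hL : Lev (S : Subgroup G) K)
    (eqB : B = (S : Subgroup G) ⊓ centralizer (zc (nxt (S : Subgroup G) K) : Set G)) (hT : Syl T H)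
    (hB : B ≤ T) (hP : IsMinPar T H) (hc : H ⊓ centralizer (o2 H : Set G) ≤ o2 H)
    (hK : K ≤ o2 H) (hn : ¬ nxt (S : Subgroup G) K ≤ o2 H) (hZ : ¬ H ≤ centralizer (zc T : Set G)) :
    ∃ L V : Subgroup G, L ≤ H ∧ FBlk B L V ∧ V ≤ zc K ∧ H ≤ T ⊔ L := by
  have hb := lb_top S hL eqB
  have hle := hb.KB.trans hB
  have hT2 := hT.2.1
  have hLT := lev_T S hL hT2 ((le_nxt hL.le).trans hle)
  have hnx := LevD.nxt_eq (Lev.Wc.wc_Lev hL) (Lev.Wc.wc_Lev hL.next) hT2 hle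
  have hV : zl T H ≤ zc K :=
    (MinSimple.VModule.zl_le_zc hT.1 hT2 (syl_not_dvd hT) hc).trans (hLT.zc_o2_le hK (o2_le_syl hT))
  have hQC := BlkGen.inf_cent hT hP hZ
  obtain ⟨A, hA, hAQ⟩ : ∃ A ∈ BO T K, ¬ A ≤ o2 H := by
    by_contra hcon
    push Not at hcon
    apply hn
    rw [← hnx]
    exact sup_le ((inf_le_inf_left _ (centralizer_le hV)).trans hQC) (sSup_le hcon)
  have hoff : OffM (zl T H) A := hA.2.offM hV fun h1 => hAQ ((le_inf hA.1 h1).trans hQC)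
  obtain ⟨hno, hcon⟩ := FF.Glob.ffthmM G T H hT hP hc ⟨A, hA.1.trans hT.1, hoff⟩
  have hge := GE.of_lev hT hP hc hZ hLT hK hno
  have hbz := bz_top S hL eqB hT2 hB
  have hw := hb.weakNormal
  have hHK : H ≤ normalizer (zc K : Set G) := by
    refine (le_normalizer_o2 H).trans fun g hg => normalizer_le_zc _ (mem_normalizer_iff_cj.2 ?_)
    exact LevD.norm_of_wc (Lev.Wc.wc_Lev hL) (isPGroup_o2 H) hK hg
  have hzB : zc B ≤ zc K := by
    rw [hbz.zcB]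
    exact hL.zc_le_zc (le_nxt hL.le) (nxt_le _ _)
  rcases hcon with ⟨F, _, _, _, k, hk, ⟨N⟩⟩ | ⟨k, m, hk, hm, hN⟩
  · obtain ⟨L, N', N₁, D', -, hLH, hpb, hsup⟩ := GNat.exists_pb hge hbz N hk ⟨A, hA, hAQ⟩
    have hF : FBlk B L _ := ⟨⟨_, _, hpb.fb⟩, hpb.block hw⟩
    exact ⟨L, _, hLH, hF, blk_le hF (hLH.trans hHK) hzB, hsup⟩
  · obtain ⟨L, N', N₁, D', q, -, hLH, hpb, hsup⟩ := LevB.symBlk G T H _ _ _ _ k m hge hbz hk hm hN ⟨A, hA, hAQ⟩
    have hF : FBlk B L _ := ⟨⟨_, _, hpb.fb⟩, hpb.block hw⟩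
    exact ⟨L, _, hLH, hF, blk_le hF (hLH.trans hHK) hzB, hsup⟩

end blk

/-! ### The frames -/

section frames

variable {S : Sylow 2 G} {P K₀ B : Subgroup G}

/-- a best offender on `Ω₁(Z(K₀))` which is not in `O₂(P)` -/
theorem exists_BO (h : HypN S P) (hL : Lev (S : Subgroup G) K₀) (hle : K₀ ≤ o2 P)
    (hn : ¬ nxt (S : Subgroup G) K₀ ≤ o2 P) : ∃ A ∈ BO (S : Subgroup G) K₀, ¬ A ≤ o2 P := by
  by_contra hcon
  push Not at hcon
  apply hn
  refine sup_le ?_ (sSup_le hcon)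
  have hG := h.toHyp.ctx.char2
  have hP := h.toHyp.star
  have h3 : zl (S : Subgroup G) P ≤ zc K₀ := (hP.isLoc.zl_le S hG).trans (hL.zc_o2_le hle (hP.isLoc.o2_le S))
  have h4 := MinPar.IsParS.inf_centralizer S hG hP
  rw [← h4]
  exact inf_le_inf_left _ (centralizer_le h3)

variable {F : Type} [Field F] [Finite F] [CharP F 2] {k : ℕ}

/-- the frame `FrL` over `X = Ω₁(Z(K₀))` -/
theorem exists_frL (h : HypN S P) (hL : Lev (S : Subgroup G) K₀) (hle : K₀ ≤ o2 P)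
    (hn : ¬ nxt (S : Subgroup G) K₀ ≤ o2 P) (hk : 2 ≤ k)
    (N : NatKM F (S : Subgroup G) P (zl (S : Subgroup G) P) (cv (S : Subgroup G) P) k)
    (eqB : B = (S : Subgroup G) ⊓ centralizer (zc (nxt (S : Subgroup G) K₀) : Set G)) :
    ∃ L W Z C A : Fin k → Subgroup G, FrL B (o2 P) (zl (S : Subgroup G) P) (zc K₀) (zc (nxt (S : Subgroup G) K₀))
      L W Z C A (Nat.card F) := by
  obtain ⟨M, L, Z, A, -, hF, -⟩ := Lev.Main.bg_K h hL hle (exists_BO h hL hle hn) hk N eqB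
  exact ⟨L, _, Z, _, A, hF⟩

end frames

section uni

variable {S : Sylow 2 G} {P K₀ B ZJ : Subgroup G} {k : ℕ} {L W Z C L₁ W₁ Z₁ C₁ A₁ : Fin k → Subgroup G} {q : ℕ}

/-- two frames have the same `Z i` -/
theorem match_Z (h : Bg S P B ZJ L W Z C q) {X : Subgroup G}
    (hF : FrL B (o2 P) (zl (S : Subgroup G) P) X ZJ L₁ W₁ Z₁ C₁ A₁ q) :
    (∀ i, ∃ i₁, Z i = Z₁ i₁) ∧ ∀ i₁, ∃ i, Z₁ i₁ = Z i := by
  have h1 : ∀ i, ∃ i₁, Z i = Z₁ i₁ := by
    intro i
    obtain ⟨-, i₁, hi, -⟩ := hF.uni (h.fr.blk i).toMd ((h.fr.WV i).trans hF.VX)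
    refine ⟨i₁, ?_⟩
    rw [← hi]
    symm
    apply le_antisymm ((h.fr.blk i).comm_le le_rfl)
    intro z hz
    obtain ⟨w, hw, hwZ⟩ : ∃ w ∈ W i, w ∉ Z i := by
      by_contra hcon
      push Not at hcon
      have h5 := Subgroup.card_le_of_le hcon
      rw [card_W h, h.fr.cardZ] at h5
      have h6 := (h.fr.blk i).one
      nlinarith
    obtain ⟨b, hb, -, e⟩ := h.root i w hw hwZ z hz
    have h1 := inv_mem (commutator_mem_commutator (H₁ := W i) (H₂ := B) hw hb)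
    rw [← e]
    have e2 : (⁅w, b⁆)⁻¹ = b * w * b⁻¹ * w⁻¹ := by rw [commutatorElement_def]; group
    rwa [e2] at h1
  refine ⟨h1, ?_⟩
  choose σ hσ using h1
  have hinj : Function.Injective σ := fun a b e => h.Z_inj (by rw [hσ a, hσ b, e])
  have hsur : Function.Surjective σ := Finite.surjective_of_injective hinj
  intro i₁
  obtain ⟨i, rfl⟩ := hsur i₁
  exact ⟨i, (hσ i).symm⟩

/-- **UNI+ for the blocks with `V' ≤ Ω₁(Z(K₀))`.** -/
theorem uni_top (h : Bg S P B ZJ L W Z C q) (hL : Lev (S : Subgroup G) K₀)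
    (eqB : B = (S : Subgroup G) ⊓ centralizer (zc (nxt (S : Subgroup G) K₀) : Set G))
    (hF : FrL B (o2 P) (zl (S : Subgroup G) P) (zc K₀) ZJ L₁ W₁ Z₁ C₁ A₁ q) {L' V' : Subgroup G}
    (hb : FBlk B L' V') (hV : V' ≤ zc K₀) : ∃ l, NB B L' V' (Z l) q ∧ V' ≤ zl (S : Subgroup G) P := by
  obtain ⟨⟨Z', q', hFB⟩, -⟩ := hb
  have hp : ∀ g ∈ normalizer (B : Set G), ∀ j, ∃ k, cj g (Z₁ j) = Z₁ k := by
    intro g hg j
    have h1 := Lev.Wc.norm_B_Lev hL eqB hg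
    obtain ⟨k, hk, -⟩ := (hF.norm_of hg (normalizer_le_zc _ h1)).2 j
    exact ⟨k, hk⟩
  obtain ⟨-, l₁, -, hN, hle, -⟩ := Lev.UniPlus.uniPlusX hF h.bau_two h.wc hp hFB hV
  obtain ⟨l, hl⟩ := (match_Z h hF).2 l₁
  rw [hl] at hN
  exact ⟨l, hN, hle.trans (sup_le (hF.WV l₁) hF.ZJV)⟩

/-- **FIX-X.** -/
theorem fix_top (h : Bg S P B ZJ L W Z C q) (hle : K₀ ≤ o2 P)
    (hF : FrL B (o2 P) (zl (S : Subgroup G) P) (zc K₀) ZJ L₁ W₁ Z₁ C₁ A₁ q) {i : Fin k} {n : G} (hn : n ∈ zc K₀)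
    (hc : ∀ b ∈ o2 P, n * b * n⁻¹ * b⁻¹ ∈ Z i) : n ∈ zl (S : Subgroup G) P := by
  obtain ⟨i₁, hi⟩ := (match_Z h hF).1 i
  exact FixX.fixX hF hn (hle ((ZN.zc_le _) hn)) fun b hb => hi ▸ hc b hb

end uni

/-! ### `k = 2` -/

/-- **The socket**: the minimal parabolics over `T = C_S(Z i)` in `C(Z i)` which move `Z j` are not weird. -/
def WeirdK (S K₀ : Subgroup G) {ι : Type} (Z : ι → Subgroup G) (i j : ι) : Prop :=
  ∀ R : Subgroup G, IsMinPar (S ⊓ centralizer (Z i : Set G)) R → R ≤ centralizer (Z i : Set G) →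
    ¬ R ≤ normalizer (Z j : Set G) → K₀ ≤ o2 R

section two

variable {S : Sylow 2 G} {P K₀ B ZJ : Subgroup G} {L W Z C : Fin 2 → Subgroup G} {q : ℕ}
  {L₁ W₁ Z₁ C₁ A₁ : Fin 2 → Subgroup G} {i j : Fin 2} {s : G}

theorem genV_top (h : Bg S P B ZJ L W Z C q) (p : Pa (S : Subgroup G) W i j s) (h2 : ∀ l : Fin 2, l = i ∨ l = j)
    (hTI : TI (Z i)) (hL : Lev (S : Subgroup G) K₀) (eqZ : ZJ = zc (nxt (S : Subgroup G) K₀))
    (eqB : B = (S : Subgroup G) ⊓ centralizer (zc (nxt (S : Subgroup G) K₀) : Set G))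
    (hF : FrL B (o2 P) (zl (S : Subgroup G) P) (zc K₀) ZJ L₁ W₁ Z₁ C₁ A₁ q)
    (hw : WeirdK (S : Subgroup G) K₀ Z i j) : GenV (S : Subgroup G) B (zl (S : Subgroup G) P) Z q i j := by
  intro R hR hRC hne
  have hBT := B_le_T h i
  have hS : Syl ((S : Subgroup G) ⊓ centralizer (Z i : Set G)) R :=
    ⟨hR.le, S.isPGroup'.to_le inf_le_left, fun Q hQ h3 hle => (syl_T h i).2.2 Q (hQ.trans hRC) h3 hle⟩
  have hc := char2 h (i := i) (hBT.trans hR.le) hRC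
  have hZ := not_cent h p h2 hTI hne
  have hK := hw R hR hRC hne
  have hn : ¬ nxt (S : Subgroup G) K₀ ≤ o2 R := by
    intro h1
    refine hne (nor_Zj h p h2 hTI hRC ?_)
    rw [eqZ]
    exact (le_normalizer_o2 R).trans ((lb_top S hL eqB).nrm _ (isPGroup_o2 R) h1)
  obtain ⟨L', V', h3, h4, h5, h6⟩ := exists_fblk S hL eqB hS hBT hR hc hK hn hZ
  obtain ⟨l, h7, h8⟩ := uni_top h hL eqB hF h4 h5
  exact ⟨L', V', l, h3, h6, h7, h8⟩

theorem fixU_top (h : Bg S P B ZJ L W Z C q) (hL : Lev (S : Subgroup G) K₀) (hle : K₀ ≤ o2 P)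
    (hF : FrL B (o2 P) (zl (S : Subgroup G) P) (zc K₀) ZJ L₁ W₁ Z₁ C₁ A₁ q)
    (hw : WeirdK (S : Subgroup G) K₀ Z i j) : FixU (S : Subgroup G) P W Z i j := by
  intro R hR hRC hne r hr w hw' hwQ hwc
  have hK := hw R hR hRC hne
  have hRX : R ≤ normalizer (zc K₀ : Set G) := by
    refine (le_normalizer_o2 R).trans fun g hg => normalizer_le_zc _ (mem_normalizer_iff_cj.2 ?_)
    exact LevD.norm_of_wc (Lev.Wc.wc_Lev hL) (isPGroup_o2 R) hK hg
  exact fix_top h hle hF ((mem_normalizer_iff.1 (hRX hr) w).1 (hF.VX (h.fr.WV i hw'))) hwc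

/-- **`QFr` over a general top level.** -/
theorem qfr_top (h : Bg S P B ZJ L W Z C q) (p : Pa (S : Subgroup G) W i j s) (h2 : ∀ l : Fin 2, l = i ∨ l = j)
    (hTI : TI (Z i)) (hnl : NonLoc (normalizer (Z i : Set G)) (normalizer (Z j : Set G)))
    (self : W i ≤ PG.NN ![Z i, Z j] (Z i)) (hL : Lev (S : Subgroup G) K₀) (hle : K₀ ≤ o2 P)
    (hn : ¬ nxt (S : Subgroup G) K₀ ≤ o2 P) (eqZ : ZJ = zc (nxt (S : Subgroup G) K₀))
    (eqB : B = (S : Subgroup G) ⊓ centralizer (zc (nxt (S : Subgroup G) K₀) : Set G))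
    (nat : ∃ (F : Type) (_ : Field F) (_ : Finite F) (_ : CharP F 2), Nat.card F = q ∧
      Nonempty (NatKM F (S : Subgroup G) P (zl (S : Subgroup G) P) (cv (S : Subgroup G) P) 2))
    (hw : WeirdK (S : Subgroup G) K₀ Z i j) :
    QFr ![Z i, Z j] ![W i, W j] B ((S : Subgroup G) ⊓ centralizer (Z i : Set G)) := by
  obtain ⟨F, _, _, _, e, ⟨N⟩⟩ := nat
  obtain ⟨L₁, W₁, Z₁, C₁, A₁, hF⟩ := exists_frL h.hyp hL hle hn le_rfl N eqB
  rw [← eqZ, e] at hF
  exact qfr_of h p h2 hTI hnl self (genU_of h p h2 (genV_top h p h2 hTI hL eqZ eqB hF hw)) (fixU_top h hL hle hF hw)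

end two

end Cfsg.Agent.Omega.KL.QF.OfTop

end

end
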