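import Cfsg.Agent.Mrg.Omega.KL.QF.FrameS
import Cfsg.Agent.Mrg.Omega.KL.QF.Plug
import Cfsg.Agent.Mrg.Omega.KL.Q.ExG
import Cfsg.Agent.Mrg.Omega.NO3S.EThree.RegX
import Cfsg.Agent.Mrg.Omega.KL.QF.Fin
import Cfsg.Agent.Mrg.Omega.KL.QF.PtV
import Cfsg.Agent.Mrg.Omega.NO3S.EThree.Row7B
import Cfsg.Agent.Mrg.Omega.NO3S.EThree.Row7X

-- merged: Cfsg.Agent.Mrg.Omega.KL.QF.PlugS
section

/-!
# `(E)`, `k = 2`, `q ≥ 4`, every level: from the frame `QFs` to the module `X / Z 0` (helper651)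

* `QFt Z U B T X` : `QFs`, `|U 0 : Z 0| ≥ 4`, `H₀ = C_G(Z 0) N_{H₀}(Z 1)`, `O₂(H₀ / C(N₀)) = 1`, `X = ⟨N₀, U 0 ^ C(Z 0)⟩`,
  `U 0 ≰ Z 0 N₀`;
* **`QFt.preG`** : the frame and an exact group give `PreG` (the field `pair` is vacuous).
-/

set_option autoImplicit false
set_option linter.unusedSectionVars false
set_option maxHeartbeats 400000

namespace Cfsg.Agent.Omega.KL.QF

open Subgroup Cfsg Cfsg.Agent.ZN Cfsg.Agent.Omega.MinPar Cfsg.Agent.Omega.OM.PG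
open Cfsg.Agent.ClassTwoFusion.Quad Cfsg.Agent.Omega.ML.MinFrame
open Cfsg.Agent.Omega.KL.Q.Def (nrm mem_nrm)
open Cfsg.Agent.Omega.KL.Q.DefG (PreG gen_of_orb)
open Cfsg.Agent.Omega.OM.PG.Peel (Exa)
open Cfsg.Agent.ZN.ChoiceSit (Syl syl_not_dvd)
open Cfsg.Agent.MinSimple.MinParabolic (IsMinPar)
open Cfsg.Agent.MinSimple.VModule (o2_isPGroup)
open Cfsg.Agent.Omega.NoFF.Basic (conj_conj mem_conj conj_le_iff conj_le_centralizer comm_symm comm_mono)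
open Cfsg.Agent.Omega.NOThreeL.Pair (conj_eq_of_mem)
open scoped Pointwise

universe u v

variable {G : Type u} [Group G]

/-- the frame and the facts on `N₀`, `X` -/
structure QFt (Z U : Fin 2 → Subgroup G) (B T X : Subgroup G) : Prop extends QFs Z U B T X where
  four : 4 ≤ (Z 0).relIndex (U 0)
  adjC : ∀ u, Adj Z (Z 0) u → ∃ c ∈ centralizer (Z 0 : Set G), u = MulAut.conj c • Z 1
  core0 : ∀ J : Subgroup G, J ≤ HH (Z 0) → HH (Z 0) ≤ normalizer (J : Set G) →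
    (∀ y ∈ J, y ^ 2 ∈ centralizer (NN Z (Z 0) : Set G)) → J ≤ centralizer (NN Z (Z 0) : Set G)
  gX : ∀ W : Subgroup G, NN Z (Z 0) ≤ W → U 0 ≤ W → (∀ c ∈ centralizer (Z 0 : Set G), ∀ w ∈ W, w ∈ X →
    c * w * c⁻¹ ∈ W) → X ≤ W
  out : ¬ U 0 ≤ Z 0 ⊔ NN Z (Z 0)

namespace QFs

variable {Z U : Fin 2 → Subgroup G} {B T X : Subgroup G} (D : QFs Z U B T X)

include D

theorem Z1ne : Z 1 ≠ ⊥ := by
  intro h
  obtain ⟨s, -, h1, -, -⟩ := D.swap
  apply D.ne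
  rw [← h1, h, Subgroup.smul_bot]

/-- some minimal parabolic moves `Z 1` -/
theorem exists_mv [Finite G] (adjC : ∀ u, Adj Z (Z 0) u → ∃ c ∈ centralizer (Z 0 : Set G), u = MulAut.conj c • Z 1)
    (hout : ¬ U 0 ≤ Z 0 ⊔ NN Z (Z 0)) :
    ∃ R : Subgroup G, IsMinPar T R ∧ R ≤ centralizer (Z 0 : Set G) ∧ ¬ R ≤ normalizer (Z 1 : Set G) := by
  by_contra hcon
  push Not at hcon
  have h1 : centralizer (Z 0 : Set G) ≤ normalizer (Z 1 : Set G) := by
    rw [← Cfsg.Agent.MinSimple.MinParabolic.sup_iSup_eq D.TC]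
    refine sup_le ((le_inf inf_le_left inf_le_right).trans (D.nT.trans inf_le_left)) (iSup_le fun R => ?_)
    exact hcon R R.2.1 R.2.2
  have h2 : NN Z (Z 0) ≤ Z 1 := by
    refine sSup_le fun u hu => ?_
    obtain ⟨c, hc, rfl⟩ := adjC u hu
    exact (conj_eq_of_mem (h1 hc)).le
  have h3 : U 1 ≤ Z 1 := D.U1N.trans h2
  obtain ⟨s, -, h4, -, h5⟩ := D.swap
  have h6 := conj_le_iff (g := s) |>.2 h3
  rw [h4, h5] at h6
  exact hout (h6.trans le_sup_left)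

end QFs

namespace QFt

variable {Z U : Fin 2 → Subgroup G} {B T N : Subgroup G} (D : QFt Z U B T N)

include D

/-- the kernel of `C_G(Z 0)` on `N₀ / Z 0` is `C(N₀)` -/
theorem ker_le {c : G} (hc : c ∈ centralizer (Z 0 : Set G)) (h : ∀ n ∈ NN Z (Z 0), c * n * c⁻¹ * n⁻¹ ∈ Z 0) :
    c ∈ centralizer (NN Z (Z 0) : Set G) := by
  have hZn : centralizer (Z 0 : Set G) ≤ normalizer (Z 0 : Set G) := centralizer_le_normalizer _
  let J : Subgroup G :=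
    { carrier := {g | g ∈ centralizer (Z 0 : Set G) ∧ ∀ w ∈ NN Z (Z 0), g * w * g⁻¹ * w⁻¹ ∈ Z 0}
      one_mem' := ⟨one_mem _, fun w _ => by simp⟩
      mul_mem' := by
        rintro a b ⟨ha, ha'⟩ ⟨hb, hb'⟩
        refine ⟨mul_mem ha hb, fun w hw => ?_⟩
        have e : a * b * w * (a * b)⁻¹ * w⁻¹ = (a * (b * w * b⁻¹ * w⁻¹) * a⁻¹) * (a * w * a⁻¹ * w⁻¹) := by group
        rw [e]
        exact mul_mem ((mem_normalizer_iff.1 (hZn ha) _).1 (hb' w hw)) (ha' w hw)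
      inv_mem' := by
        rintro a ⟨ha, ha'⟩
        refine ⟨inv_mem ha, fun w hw => ?_⟩
        have e : a⁻¹ * w * a⁻¹⁻¹ * w⁻¹ = a⁻¹ * (a * w * a⁻¹ * w⁻¹)⁻¹ * a⁻¹⁻¹ := by group
        rw [e]
        exact (mem_normalizer_iff.1 (hZn (inv_mem ha)) _).1 (inv_mem (ha' w hw)) }
  refine D.core0 J (fun x hx => hZn hx.1) ?_ ?_ (⟨hc, h⟩ : c ∈ J)
  · have key : ∀ g ∈ HH (Z 0), ∀ k ∈ J, g * k * g⁻¹ ∈ J := by
      rintro g hg k ⟨hk, hk'⟩
      refine ⟨?_, fun x hx => ?_⟩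
      · have h1 := NO3L.LemP.normalizer_le_normalizer_cent (Z 0) hg
        exact (mem_normalizer_iff.1 h1 k).1 hk
      · have h1 : g⁻¹ * x * g ∈ NN Z (Z 0) := by
          have := (mem_normalizer_iff.1 (inv_mem (PP.HH_le_NN _ hg)) x).1 hx
          rwa [inv_inv] at this
        have h2 := hk' _ h1
        have e : g * k * g⁻¹ * x * (g * k * g⁻¹)⁻¹ * x⁻¹ = g * (k * (g⁻¹ * x * g) * k⁻¹ * (g⁻¹ * x * g)⁻¹) * g⁻¹ := by
          group
        rw [e]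
        exact (mem_normalizer_iff.1 hg _).1 h2
    intro g hg
    rw [mem_normalizer_iff]
    intro k
    refine ⟨key g hg k, fun h => ?_⟩
    have := key g⁻¹ (inv_mem hg) _ h
    have e : g⁻¹ * (g * k * g⁻¹) * g⁻¹⁻¹ = k := by group
    rwa [e] at this
  · rintro y ⟨hy, hy'⟩
    refine mem_centralizer_iff.2 fun n hn => ?_
    have h1 := hy' n hn
    have h2 : y * (y * n * y⁻¹ * n⁻¹) * y⁻¹ = y * n * y⁻¹ * n⁻¹ := D.cz h1 hy
    have h3 := D.Nsq (D.Z0N h1)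
    have h4 : y * y * n * y⁻¹ * y⁻¹ = n := by
      calc y * y * n * y⁻¹ * y⁻¹ = (y * (y * n * y⁻¹ * n⁻¹) * y⁻¹) * (y * n * y⁻¹ * n⁻¹) * n := by group
        _ = n := by rw [h2, h3, one_mul]
    calc n * y ^ 2 = y * y * n * y⁻¹ * y⁻¹ * y ^ 2 := by rw [h4]
      _ = y ^ 2 * n := by rw [pow_two]; group

/-- **the input (Gq) from the frame** -/
theorem preG [Finite G] (hK : IsKGroup (centralizer (Z 0 : Set G))) {A : Subgroup G} (hA2 : ∀ a ∈ A, a * a = 1)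
    (hAO : A ≤ o2 (centralizer ((Z 0 ⊔ Z 1 : Subgroup G) : Set G))) (hAU : A ≤ o2 (centralizer (U 0 : Set G)))
    (hEx : (centralizer (A : Set G)).relIndex N ≤ (centralizer (NN Z (Z 0) : Set G)).relIndex A) (hAn : ¬ A ≤ centralizer (NN Z (Z 0) : Set G)) :
    ∃ (M : Type u) (_ : Group M) (_ : Finite M) (_ : MulDistribMulAction (centralizer (Z 0 : Set G)) M)
      (X Y : Subgroup M),
      PreG (T.subgroupOf (centralizer (Z 0 : Set G))) (A.subgroupOf (centralizer (Z 0 : Set G))) X Y := by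
  set C : Subgroup G := centralizer (Z 0 : Set G) with hC
  have hCN : C ≤ normalizer (N : Set G) := D.CN
  have hCZ : C ≤ normalizer (Z 0 : Set G) := centralizer_le_normalizer _
  have hCNN : C ≤ normalizer (NN Z (Z 0) : Set G) := hCZ.trans (PP.HH_le_NN _)
  have hNC : N ≤ C := D.NC
  have hTC : T ≤ C := D.TC
  have hAC : A ≤ C := hAO.trans ((o2_le _).trans (centralizer_le (SetLike.coe_subset_coe.2 le_sup_left)))
  have hnor : ((Z 0).subgroupOf N).Normal := normal_subgroupOf_of_le_normalizer (hNC.trans hCZ)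
  let _ := ML.Final.conjAct hCN hCZ
  let mk : N →* N ⧸ (Z 0).subgroupOf N := QuotientGroup.mk' ((Z 0).subgroupOf N)
  have hmk : Function.Surjective mk := QuotientGroup.mk'_surjective _
  have hmem : ∀ (g : C) (n : N), (g : G) * n * (g : G)⁻¹ ∈ N := fun g n =>
    (mem_normalizer_iff.1 (hCN g.2) n).1 n.2
  have hsm : ∀ (g : C) (n : N), g • mk n = mk ⟨(g : G) * n * (g : G)⁻¹, hmem g n⟩ := fun _ _ => rfl
  have hone : ∀ a b : N, mk a = mk b ↔ (a : G) * (b : G)⁻¹ ∈ Z 0 := by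
    intro a b
    rw [← mul_inv_eq_one, ← map_inv, ← map_mul, ← MonoidHom.mem_ker, QuotientGroup.ker_mk']
    exact Iff.rfl
  have hfix : ∀ (g : C) (n : N), g • mk n = mk n ↔ (g : G) * n * (g : G)⁻¹ * (n : G)⁻¹ ∈ Z 0 := by
    intro g n
    rw [hsm, hone]
  have hnZ : ∀ K ≤ N, K ≤ normalizer (Z 0 : Set G) := fun K hK => hK.trans (hNC.trans hCZ)
  -- images
  have him : ∀ K ≤ N, ∀ n : N, mk n ∈ (K.subgroupOf N).map mk ↔ (n : G) ∈ Z 0 ⊔ K := by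
    intro K hKN n
    constructor
    · rintro ⟨k, hk, hkn⟩
      have h1 := (hone k n).1 hkn
      have e : (n : G) = ((k : G) * (n : G)⁻¹)⁻¹ * k := by group
      rw [e]
      exact mul_mem (inv_mem (mem_sup_left h1)) (mem_sup_right (mem_subgroupOf.1 hk))
    · intro h
      obtain ⟨z, hz, k, hk, hzk⟩ := OM.KTwo.exists_mul_of_mem_sup (hnZ K hKN) h
      refine ⟨⟨k, hKN hk⟩, mem_subgroupOf.2 hk, (hone _ _).2 ?_⟩
      change k * (n : G)⁻¹ ∈ Z 0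
      have e : k * (n : G)⁻¹ = z⁻¹ := by rw [hzk]; group
      rw [e]
      exact inv_mem hz
  have hsupN : ∀ K ≤ N, Z 0 ⊔ K ≤ N := fun K hK => sup_le D.Z0N hK
  have hnrm : ∀ K ≤ N, ∀ c : C, c ∈ nrm C ((K.subgroupOf N).map mk) ↔
      (c : G) ∈ normalizer ((Z 0 ⊔ K : Subgroup G) : Set G) := by
    intro K hKN c
    rw [mem_nrm, mem_normalizer_iff]
    constructor
    · intro h g
      by_cases hg : g ∈ N
      · have h1 := h (mk ⟨g, hg⟩)
        rw [hsm, him K hKN, him K hKN] at h1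
        exact h1.symm
      · refine ⟨fun h' => absurd (hsupN K hKN h') hg, fun h' => absurd ?_ hg⟩
        exact (mem_normalizer_iff.1 (hCN c.2) g).2 (hsupN K hKN h')
    · intro h m
      obtain ⟨n, rfl⟩ := hmk m
      rw [hsm, him K hKN, him K hKN]
      exact (h n).symm
  have hnrm' : ∀ K ≤ N, ∀ c : C, (c : G) ∈ normalizer (K : Set G) → c ∈ nrm C ((K.subgroupOf N).map mk) := by
    intro K hKN c hc
    rw [hnrm K hKN]
    refine (ThmG.norm_sup (K := zpowers (c : G)) ?_ ?_) (mem_zpowers _)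
    · rw [zpowers_le]; exact hCZ c.2
    · rw [zpowers_le]; exact hc
  have hZU : Z 0 ⊔ U 0 = U 0 := sup_eq_right.2 D.ZU
  set X : Subgroup (N ⧸ (Z 0).subgroupOf N) := ((Z 1).subgroupOf N).map mk with hX
  set Y : Subgroup (N ⧸ (Z 0).subgroupOf N) := ((U 0).subgroupOf N).map mk with hY
  set V : Subgroup (N ⧸ (Z 0).subgroupOf N) := ((U 1).subgroupOf N).map mk with hV
  -- the kernel
  have hker : ∀ c : C, (∀ m : N ⧸ (Z 0).subgroupOf N, c • m = m) → (c : G) ∈ centralizer (NN Z (Z 0) : Set G) :=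
    fun c h => D.ker_le c.2 fun n hn => (hfix c ⟨n, D.NX hn⟩).1 (h _)
  -- `N_C(T)`
  have hnT : ∀ g ∈ normalizer (T.subgroupOf C : Set C), (g : G) ∈ C ⊓ normalizer (T : Set G) := by
    intro g hg
    refine mem_inf.2 ⟨g.2, ?_⟩
    rw [mem_normalizer_iff]
    intro t
    constructor
    · intro ht
      exact (mem_normalizer_iff.1 hg ⟨t, hTC ht⟩).1 ht
    · intro ht
      have h1 : (g : G)⁻¹ * ((g : G) * t * (g : G)⁻¹) * (g : G)⁻¹⁻¹ ∈ T :=
        (mem_normalizer_iff.1 (inv_mem hg) ⟨(g : G) * t * (g : G)⁻¹, hTC ht⟩).1 ht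
      have e : (g : G)⁻¹ * ((g : G) * t * (g : G)⁻¹) * (g : G)⁻¹⁻¹ = t := by group
      rwa [e] at h1
  -- the index of the fixed space
  have hcvle : (centralizer (A : Set G)).subgroupOf N ≤
      (cv (N ⧸ (Z 0).subgroupOf N) (A.subgroupOf C : Set C)).comap mk := by
    intro n hn a ha
    refine (hfix a n).2 ?_
    have h1 := mem_centralizer_iff.1 (mem_subgroupOf.1 hn) a (mem_subgroupOf.1 ha)
    rw [h1, mul_inv_cancel_right, mul_inv_cancel]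
    exact one_mem _
  have hfxr : fxr C (⊤ : Subgroup (N ⧸ (Z 0).subgroupOf N)) ≤ (centralizer (NN Z (Z 0) : Set G)).subgroupOf C := by
    intro c hc
    rw [mem_subgroupOf]
    exact hker c fun m => hc m (mem_top m)
  have hle : (cv (N ⧸ (Z 0).subgroupOf N) (A.subgroupOf C : Set C)).index ≤
      (fxr C (⊤ : Subgroup (N ⧸ (Z 0).subgroupOf N))).relIndex (A.subgroupOf C) := by
    refine le_trans ?_ (relIndex_le_of_le_left hfxr index_ne_zero_of_finite)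
    rw [relIndex_subgroupOf hAC, ← index_comap_of_surjective _ hmk]
    refine (index_antitone hcvle).trans ?_
    exact hEx
  -- nontrivial vectors of `X`
  have hXel : ∀ m ∈ X, ∃ z : N, (z : G) ∈ Z 1 ∧ mk z = m := by
    rintro m ⟨z, hz, rfl⟩
    exact ⟨z, mem_subgroupOf.1 hz, rfl⟩
  have hYel : ∀ m ∈ Y, ∃ z : N, (z : G) ∈ U 0 ∧ mk z = m := by
    rintro m ⟨z, hz, rfl⟩
    exact ⟨z, mem_subgroupOf.1 hz, rfl⟩
  have hVel : ∀ m ∈ V, ∃ z : N, (z : G) ∈ U 1 ∧ mk z = m := by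
    rintro m ⟨z, hz, rfl⟩
    exact ⟨z, mem_subgroupOf.1 hz, rfl⟩
  have hmk1 : ∀ n : N, mk n = 1 ↔ (n : G) ∈ Z 0 := by
    intro n
    rw [← map_one mk, hone]
    simp
  have hone' : ∀ z : N, mk z ≠ 1 → (z : G) ≠ 1 := by
    intro z h h'
    apply h
    rw [hmk1, h']
    exact one_mem _
  -- the minimal parabolics
  have huni : ∀ R : Subgroup C, IsMinPar (T.subgroupOf C) R → ¬ R ≤ nrm C X →
      IsMinPar T (R.map C.subtype) ∧ R.map C.subtype ≤ C ∧ ¬ R.map C.subtype ≤ normalizer (Z 1 : Set G) := by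
    intro R hR hmv
    refine ⟨minPar_map hTC hR, map_subtype_le R, fun h => hmv fun r hr => ?_⟩
    exact hnrm' _ D.Z1N r (h (mem_map_of_mem C.subtype hr))
  have hVY : V ⊓ Y = ⊥ := by
    rw [eq_bot_iff]
    rintro m ⟨h1, h2⟩
    obtain ⟨a, ha, rfl⟩ := hVel m h1
    obtain ⟨b, hb, hba⟩ := hYel _ h2
    have h3 := (hone b a).1 hba
    have h4 : (a : G) ∈ U 0 ⊓ U 1 := by
      refine mem_inf.2 ⟨?_, ha⟩
      have e : (a : G) = ((b : G) * (a : G)⁻¹)⁻¹ * b := by group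
      rw [e]
      exact mul_mem (inv_mem (D.ZU h3)) hb
    rw [D.inf, mem_bot] at h4
    rw [mem_bot, hmk1, h4]
    exact one_mem _
  have hXV : X ≤ V := map_mono fun a ha => mem_subgroupOf.2 (D.ZU1 (mem_subgroupOf.1 ha))
  refine ⟨N ⧸ (Z 0).subgroupOf N, inferInstance, inferInstance, inferInstance, X, Y, ?_⟩
  refine PreG.mk ?_ ?_ ?_ ?_ ?_ ?_ ?_ ?_ ?_ ?_ ?_ ?_ ?_ ?_ ?_ ?_ ?_ ?_ ?_ hle hK
  · -- sq
    intro m
    obtain ⟨n, rfl⟩ := hmk m
    rw [← map_mul, hmk1]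
    have h1 : (n : G) * n = 1 := D.Nsq n.2
    change (n : G) * n ∈ Z 0
    rw [h1]
    exact one_mem _
  · exact D.T2.comap_of_injective C.subtype C.subtype_injective
  · exact D.odd
  · -- Y4
    have h1 := relIndex_ker ((U 0).subgroupOf N) mk
    rw [QuotientGroup.ker_mk', relIndex_subgroupOf D.U0N] at h1
    rw [hY, ← h1]
    exact D.four
  · -- XY
    rw [eq_bot_iff, ← hVY]
    exact inf_le_inf_right _ hXV
  · -- nX
    intro g hg
    exact hnrm' _ D.Z1N g (D.nT (hnT g hg)).1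
  · -- nY
    intro g hg
    exact hnrm' _ D.U0N g (D.nT (hnT g hg)).2
  · -- tY
    intro t ht m hm
    obtain ⟨z, hz, rfl⟩ := hYel m hm
    exact (hfix t z).2 (D.com t (mem_subgroupOf.1 ht) z hz)
  · -- sX
    intro m hm hm1 g hg
    obtain ⟨z, hz, rfl⟩ := hXel m hm
    have h1 := (hfix g z).1 (MulAction.mem_stabilizer_iff.1 hg)
    exact hnrm' _ D.Z1N g (D.tix hz (hone' z hm1) h1).1
  · -- sY
    intro m hm hm1 g hg
    obtain ⟨z, hz, rfl⟩ := hYel m hm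
    have h1 := (hfix g z).1 (MulAction.mem_stabilizer_iff.1 hg)
    exact hnrm' _ D.U0N g (D.tiy g.2 hz (fun h => hm1 ((hmk1 z).2 h)) h1)
  · -- u1
    rintro R hR m hm hTm ⟨p, hp, hpm⟩ r hr y hy
    obtain ⟨z, hz, rfl⟩ := hXel m hm
    obtain ⟨w, hw, rfl⟩ := hYel y hy
    have hz1 : (z : G) ≠ 1 := by
      intro h
      apply hpm
      have h1 : mk z = 1 := by rw [hmk1, h]; exact one_mem _
      rw [h1, smul_one]
    refine (hfix r w).2 ?_
    refine D.u1 (minPar_map hTC hR) (map_subtype_le R) hz ?_ (mem_map_of_mem C.subtype hp) ?_ _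
      (mem_map_of_mem C.subtype hr) _ hw
    · intro t ht
      exact (D.tix hz hz1 ((hfix ⟨t, hTC ht⟩ z).1 (hTm _ (mem_subgroupOf.2 ht)))).2
    · intro h
      apply hpm
      rw [hfix]
      have h' : (p : G) * z * (p : G)⁻¹ = z := h
      rw [h', mul_inv_cancel]
      exact one_mem _
  · -- uni
    intro R hR hmv
    obtain ⟨h1, h2, h3⟩ := huni R hR hmv
    obtain ⟨h4, -, h5, -⟩ := D.uni _ h1 h2 h3
    refine ⟨?_, V, hXV, fun r hr => hnrm' _ D.U1X r (h4 (mem_map_of_mem C.subtype hr)), hVY, ?_⟩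
    · intro r hr y hy
      obtain ⟨w, hw, rfl⟩ := hYel y hy
      exact (hfix r w).2 (D.uni2 h1 h2 h3 _ (mem_map_of_mem C.subtype hr) _ hw)
    · intro v hv w hw hv1 hw1
      obtain ⟨a, ha, rfl⟩ := hVel v hv
      obtain ⟨b, hb, rfl⟩ := hVel w hw
      obtain ⟨_, ⟨r, hr, rfl⟩, hrab⟩ := h5 a ha (hone' a hv1) b hb (hone' b hw1)
      refine ⟨r, hr, ?_⟩
      rw [hsm]
      exact congrArg mk (Subtype.ext hrab)
  · -- ex
    obtain ⟨z, hz, hz1, hTz⟩ := NOThreeL.AdjTransv.exists_fixed D.T2 D.Z1ne (fun z hz => D.Nsq (D.Z1N hz))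
      fun t ht z hz => (mem_normalizer_iff.1 (D.T1 ht) z).1 hz
    refine ⟨mk ⟨z, D.Z1N hz⟩, ⟨_, mem_subgroupOf.2 hz, rfl⟩, fun h => hz1 ?_, fun t ht => ?_⟩
    · have h2 : z ∈ Z 0 ⊓ Z 1 := ⟨(hmk1 _).1 h, hz⟩
      rwa [D.inf01, mem_bot] at h2
    · rw [hfix]
      change (t : G) * z * (t : G)⁻¹ * z⁻¹ ∈ Z 0
      rw [hTz _ (mem_subgroupOf.1 ht), mul_inv_cancel]
      exact one_mem _
  · -- gen
    intro m hm hm1 _ U₀ hmU hYU hU₀
    obtain ⟨z, hz, rfl⟩ := hXel m hm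
    obtain ⟨R, hR, hRC, hRm⟩ := D.toQFs.exists_mv D.adjC D.out
    obtain ⟨-, -, h5, -⟩ := D.uni _ hR hRC hRm
    have hVW : ∀ y : N, (y : G) ∈ U 1 → mk y ∈ U₀ := by
      intro y hy
      by_cases hy1 : (y : G) = 1
      · have h1 : mk y = 1 := by rw [hmk1, hy1]; exact one_mem _
        rw [h1]
        exact one_mem _
      · obtain ⟨r, hr, hrz⟩ := h5 z (D.ZU1 hz) (hone' z hm1) y hy hy1
        have h2 := hU₀ (⟨r, hRC hr⟩ : C) _ hmU
        rw [hsm] at h2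
        have e : (⟨r * (z : G) * r⁻¹, hmem ⟨r, hRC hr⟩ z⟩ : N) = y := Subtype.ext hrz
        exact e ▸ h2
    set W : Subgroup G := (U₀.comap mk).map N.subtype with hW
    have hWmem : ∀ a : N, (a : G) ∈ W ↔ mk a ∈ U₀ := by
      intro a
      constructor
      · rintro ⟨b, hb, hba⟩
        rw [← (Subtype.ext hba : b = a)]
        exact hb
      · exact fun ha => ⟨a, ha, rfl⟩
    have h1 : N ≤ W := by
      refine D.gX W ?_ ?_ ?_
      · refine sSup_le fun u hu => ?_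
        obtain ⟨c, hc, rfl⟩ := D.adjC u hu
        rintro _ ⟨x, hx, rfl⟩
        have h2 := hU₀ (⟨c, hc⟩ : C) _ (hVW ⟨x, D.Z1N hx⟩ (D.ZU1 hx))
        rw [hsm] at h2
        exact (hWmem _).2 h2
      · intro x hx
        exact (hWmem ⟨x, D.U0N hx⟩).2 (hYU ⟨⟨x, D.U0N hx⟩, mem_subgroupOf.2 hx, rfl⟩)
      · intro c hc w hw hwN
        have h2 := hU₀ (⟨c, hc⟩ : C) _ ((hWmem ⟨w, hwN⟩).1 hw)
        rw [hsm] at h2
        exact (hWmem _).2 h2
    rw [eq_top_iff]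
    intro m _
    obtain ⟨n, rfl⟩ := hmk m
    exact (hWmem n).1 (h1 n.2)
  · -- pair
    intro ζ _ O hO hYO _
    exfalso
    apply D.out
    intro x hx
    have h1 : closure O ≤ ((NN Z (Z 0)).subgroupOf N).map mk := by
      rw [closure_le]
      intro w hw
      obtain ⟨g, m, hm, rfl⟩ := hO w hw
      obtain ⟨z, hz, rfl⟩ := hXel m hm
      rw [hsm]
      refine ⟨_, mem_subgroupOf.2 ?_, rfl⟩
      exact (mem_normalizer_iff.1 (hCNN g.2) _).1 (D.ZU1.trans D.U1N hz)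
    exact (him _ D.NX ⟨x, D.U0N hx⟩).1 (h1 (hYO ⟨⟨x, D.U0N hx⟩, mem_subgroupOf.2 hx, rfl⟩))
  · -- el
    intro a ha
    exact Subtype.ext (hA2 a (mem_subgroupOf.1 ha))
  · -- Ax
    refine sub_o2 (S := C ⊓ normalizer ((Z 0 ⊔ Z 1 : Subgroup G) : Set G)) (fun c => ?_) ?_
    · rw [hnrm _ D.Z1N]
      exact ⟨fun h => ⟨c.2, h⟩, fun h => h.2⟩
    · refine hAO.trans (MinSimple.VModule.le_o2 ?_ (o2_isPGroup _) ?_)
      · exact (o2_le _).trans (le_inf (centralizer_le (SetLike.coe_subset_coe.2 le_sup_left)) (centralizer_le_normalizer _))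
      · exact (inf_le_right.trans (NO3L.LemP.normalizer_le_normalizer_cent _)).trans
          (Cfsg.Agent.Omega.normalizer_le_normalizer_o2' _)
  · -- Ay
    refine sub_o2 (S := C ⊓ normalizer (U 0 : Set G)) (fun c => ?_) ?_
    · rw [hnrm _ D.U0N, hZU]
      exact ⟨fun h => ⟨c.2, h⟩, fun h => h.2⟩
    · refine hAU.trans (MinSimple.VModule.le_o2 ?_ (o2_isPGroup _) ?_)
      · exact (o2_le _).trans (le_inf (centralizer_le (SetLike.coe_subset_coe.2 D.ZU)) (centralizer_le_normalizer _))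
      · exact (inf_le_right.trans (NO3L.LemP.normalizer_le_normalizer_cent _)).trans
          (Cfsg.Agent.Omega.normalizer_le_normalizer_o2' _)
  · -- mv
    by_contra hcon
    push Not at hcon
    apply hAn
    intro a ha
    exact hker ⟨a, hAC ha⟩ fun m => hcon ⟨a, hAC ha⟩ (mem_subgroupOf.2 ha) m

end QFt

end Cfsg.Agent.Omega.KL.QF

end

-- merged: Cfsg.Agent.Mrg.Omega.KL.QF.NotFail
section

/-!
# Not FAIL (helper23 #22505 (II), helper475 #24418), two centres of any order, no generation by minimal parabolics (helper651)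

`D : FQ Z U B q`, `I : ExG.In Z U`, `O = O₂(C_G(Z 0 Z 1))`.

* `not_fail` : some `A ∈ AA O`, `A ≤ Q_1`, with `C_A(ZV)` moving `N_0`, `ZV = ⟨Z_1 ^ C_G(U_0)⟩`;
* **`exists_exX`** : if `AA O` centralises `U 0` : some elementary abelian `A ≤ O ∩ O₂(C_G(U_0))` which moves `N_0` is exact on
  `X_0 = XW Z U (Z 0)`, with the same kernel.
-/

set_option autoImplicit false
set_option linter.unusedSectionVars false

namespace Cfsg.Agent.Omega.KL.QF.NotFail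

open Subgroup Cfsg Cfsg.Agent.ZN Cfsg.Agent.Omega.MinPar
open Cfsg.Agent.Omega.OM.PG Cfsg.Agent.Omega.OM.PG.Peel
open Cfsg.Agent.Omega.NO3S.EThree
open Cfsg.Agent.Omega.NO3S.EThree.ExactA (eab_iff eab_mono eab_sup swp)
open Cfsg.Agent.Omega.NoFF.Basic (conj_conj mem_conj conj_le_iff conj_le_centralizer comm_symm comm_mono Z_le_V V_le)
open Cfsg.Agent.Omega.NOThreeL.Pair (conj_eq_of_mem)
open Cfsg.Agent.ZN.ChoiceBase (AA mm mm_eq mem_AA_iff AA_nonempty card_le_mm cj_mem_AA mm_cj)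
open Cfsg.Agent.Omega.KL.Q.ExG (In ZV conj_ZV conj_cent conj_inf le_V' le_normalizer_V' le_norm_of)
open scoped Pointwise

universe u

variable {G : Type u} [Group G] [Finite G] {Z U : Fin 2 → Subgroup G} {B : Subgroup G} {q : ℕ}

/-- `C_A(N_0) N_0` -/
def RR (Z : Fin 2 → Subgroup G) (A : Subgroup G) : Subgroup G :=
  (A ⊓ centralizer (NN Z (Z 0) : Set G)) ⊔ NN Z (Z 0)

/-- `{C_A(N_0) N_0 : A ∈ AA O, A ≤ Q_1}` -/
def SS (Z : Fin 2 → Subgroup G) : Set (Subgroup G) :=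
  {X | ∃ A ∈ AA (OO Z), A ≤ QQ (Z 1) ∧ X = RR Z A}

/-- FAIL -/
def Fail (Z U : Fin 2 → Subgroup G) : Prop :=
  ∀ A ∈ AA (OO Z), A ≤ QQ (Z 1) → A ⊓ centralizer (ZV Z U : Set G) ≤ centralizer (NN Z (Z 0) : Set G)

section

variable (D : FQ Z U B q)
include D

/-- conjugation by `HH (Z i)` preserves `AA O ∩ Q_i` -/
theorem conj_AA (i : Fin 2) {A : Subgroup G} (hA : A ∈ AA (OO Z)) (hAQ : A ≤ QQ (Z i)) {g : G} (hg : g ∈ HH (Z i)) :
    MulAut.conj g • A ∈ AA (OO Z) ∧ MulAut.conj g • A ≤ QQ (Z i) := by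
  have h3 := conj_le_iff (g := g) |>.2 hAQ
  have h4 : MulAut.conj g • QQ (Z i) = QQ (Z i) := conj_eq_of_mem (MinSimple.VModule.le_normalizer_o2 _ hg)
  rw [h4] at h3
  refine ⟨?_, h3⟩
  have h2 := cj_mem_AA g hA
  rw [mem_AA_iff] at hA ⊢
  refine ⟨h2.1, h3.trans (D.Q_le_O i), ?_⟩
  have h5 : Nat.card (MulAut.conj g • A : Subgroup G) = Nat.card A := ChoiceBase.card_cj g A
  rw [h5]
  exact hA.2.2

theorem RR_mem (hNO : NoDQ Z) {A : Subgroup G} (hA : A ∈ AA (OO Z)) :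
    RR Z A ∈ AA (OO Z) ∧ RR Z A ≤ QQ (Z 0) ∧ NN Z (Z 0) ≤ RR Z A := by
  have h := (D.exact_AA hNO 0 hA).2.2
  refine ⟨h, ?_, le_sup_right⟩
  exact (le_inf h.2.1 (sup_le inf_le_right (D.N_comm 0))).trans (D.O_inf_le 0)

variable (I : In Z U)
include I

theorem Q1_le_C : QQ (Z 1) ≤ centralizer (U 0 : Set G) :=
  (D.Q_cent_N 1).trans (centralizer_le I.U01)

theorem nobZV {A : Subgroup G} (hA : A ∈ AA (OO Z)) (hAQ : A ≤ QQ (Z 1)) : Nob (ZV Z U) A :=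
  I.noH A hA.1 hAQ (hAQ.trans (Q1_le_C D I))

theorem fail_eq (hF : Fail Z U) (hNO : NoDQ Z) {A : Subgroup G} (hA : A ∈ AA (OO Z)) (hAQ : A ≤ QQ (Z 1)) :
    RR Z A = (A ⊓ centralizer (ZV Z U : Set G)) ⊔ ZV Z U := by
  have h1 := (RR_mem D hNO hA).1
  have h2 : (A ⊓ centralizer (ZV Z U : Set G)) ⊔ ZV Z U ∈ AA (OO Z) :=
    (swp (eab_mono (D.N_eab 0) I.ZV_le) (I.ZV_le.trans (D.N_le_O 0)) hA (nobZV D I hA hAQ)).2.2
  have h3 : (A ⊓ centralizer (ZV Z U : Set G)) ⊔ ZV Z U ≤ RR Z A :=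
    sup_le_sup (le_inf inf_le_left (hF A hA hAQ)) I.ZV_le
  exact (Subgroup.eq_of_le_of_card_ge h3 (h2.2.2 _ h1.1 h1.2.1)).symm

theorem SS_step (hF : Fail Z U) (hNO : NoDQ Z) {g : G} (hg : g ∈ HH (Z 1)) (hg2 : g ∈ HH (Z 0) ∨ g ∈ HH (U 0))
    {X : Subgroup G} (hX : X ∈ SS Z) : MulAut.conj g • X ∈ SS Z := by
  obtain ⟨A, hA, hAQ, rfl⟩ := hX
  obtain ⟨hA', hAQ'⟩ := conj_AA D 1 hA hAQ hg
  refine ⟨MulAut.conj g • A, hA', hAQ', ?_⟩
  rcases hg2 with h | h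
  · have e2 : MulAut.conj g • NN Z (Z 0) = NN Z (Z 0) := conj_eq_of_mem (D.HH_norm_N 0 h)
    unfold RR
    rw [Subgroup.smul_sup, conj_inf, conj_cent, e2]
  · have e2 : MulAut.conj g • ZV Z U = ZV Z U := conj_ZV hg h
    rw [fail_eq D I hF hNO hA hAQ, fail_eq D I hF hNO hA' hAQ', Subgroup.smul_sup, conj_inf, conj_cent, e2]

theorem SS_inv (hF : Fail Z U) (hNO : NoDQ Z) {g : G} (hg : g ∈ HH (Z 1)) {X : Subgroup G} (hX : X ∈ SS Z) :
    MulAut.conj g • X ∈ SS Z := by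
  let K : Subgroup G :=
    { carrier := {g | ∀ X, X ∈ SS Z ↔ MulAut.conj g • X ∈ SS Z}
      one_mem' := fun X => by rw [map_one, one_smul]
      mul_mem' := by
        intro a b ha hb X
        rw [hb X, ha, conj_conj]
      inv_mem' := by
        intro a ha X
        have h := ha (MulAut.conj a⁻¹ • X)
        rw [conj_conj, mul_inv_cancel, map_one, one_smul] at h
        exact h.symm }
  have key : ∀ r : G, r ∈ HH (Z 1) → (r ∈ HH (Z 0) ∨ r ∈ HH (U 0)) → r ∈ K := by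
    intro r hr hr2 X
    refine ⟨SS_step D I hF hNO hr hr2, fun h => ?_⟩
    have h1 := SS_step D I hF hNO (inv_mem hr) (hr2.imp (fun h => inv_mem h) fun h => inv_mem h) h
    rwa [conj_conj, inv_mul_cancel, map_one, one_smul] at h1
  have h : HH (Z 1) ≤ K :=
    I.gen.trans (sup_le (fun r hr => key r hr.1 (Or.inr hr.2)) fun r hr => key r hr.1 (Or.inl hr.2))
  exact (h hg X).1 hX

theorem SS_le (hF : Fail Z U) (hNO : NoDQ Z) {X : Subgroup G} (hX : X ∈ SS Z) : X ≤ QQ (Z 1) := by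
  have hm : ∀ Y ∈ SS Z, Y ≤ OO Z := by
    rintro Y ⟨A, hA, -, rfl⟩
    exact (RR_mem D hNO hA).1.2.1
  have h1 : NoFF.Basic.V X (HH (Z 1)) ≤ OO Z := V_le fun c hc => hm _ (SS_inv D I hF hNO hc hX)
  have h2 : NoFF.Basic.V X (HH (Z 1)) ≤ QQ (Z 1) :=
    MinSimple.VModule.le_o2 ((h1.trans D.O_le_B).trans (D.B_le_HH 1)) ((MinSimple.VModule.o2_isPGroup _).to_le h1) (le_normalizer_V' _ _)
  exact (le_V' _ _).trans h2

theorem SS_iff (hF : Fail Z U) (hNO : NoDQ Z) (X : Subgroup G) :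
    X ∈ SS Z ↔ X ∈ AA (OO Z) ∧ X ≤ QQ (Z 0) ∧ X ≤ QQ (Z 1) := by
  constructor
  · intro hX
    have h := SS_le D I hF hNO hX
    obtain ⟨A, hA, -, rfl⟩ := hX
    exact ⟨(RR_mem D hNO hA).1, (RR_mem D hNO hA).2.1, h⟩
  · rintro ⟨h1, h2, h3⟩
    refine ⟨X, h1, h3, ?_⟩
    have h4 : X ≤ centralizer (NN Z (Z 0) : Set G) := h2.trans (D.Q_cent_N 0)
    have h5 : NN Z (Z 0) ≤ X := (le_inf le_rfl (comm_symm h4)).trans (D.exact_AA hNO 0 h1).2.1
    unfold RR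
    rw [inf_eq_left.2 h4, sup_eq_left.2 h5]

/-- **not FAIL** -/
theorem not_fail (hNO : NoDQ Z) (hF : Fail Z U) : False := by
  obtain ⟨s, -, hs0, hs1, -, -⟩ := D.swB
  have hO : MulAut.conj s • OO Z = OO Z := by
    have h2 : MulAut.conj s • (Z 0 ⊔ Z 1) = Z 0 ⊔ Z 1 := by
      rw [Subgroup.smul_sup, hs0, hs1, sup_comm]
    have h3 : s ∈ normalizer ((Z 0 ⊔ Z 1 : Subgroup G) : Set G) := ChoiceBase.mem_normalizer_iff_cj.2 h2
    have h4 := NO3L.LemP.normalizer_le_normalizer_cent (Z 0 ⊔ Z 1) h3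
    exact conj_eq_of_mem (Cfsg.Agent.Omega.normalizer_le_normalizer_o2' _ h4)
  have hs : ∀ X, X ∈ SS Z → MulAut.conj s • X ∈ SS Z := by
    intro X hX
    rw [SS_iff D I hF hNO] at hX ⊢
    obtain ⟨h1, h2, h3⟩ := hX
    refine ⟨?_, ?_, ?_⟩
    · have h4 := cj_mem_AA s h1
      have h5 : ChoiceBase.cj s (OO Z) = OO Z := hO
      rwa [h5] at h4
    · have h4 := conj_le_iff (g := s) |>.2 h3
      rwa [← QQ_conj, hs1] at h4
    · have h4 := conj_le_iff (g := s) |>.2 h2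
      rwa [← QQ_conj, hs0] at h4
  have hs' : ∀ X, X ∈ SS Z → MulAut.conj s⁻¹ • X ∈ SS Z := by
    intro X hX
    rw [SS_iff D I hF hNO] at hX ⊢
    obtain ⟨h1, h2, h3⟩ := hX
    have e0 : MulAut.conj s⁻¹ • Z 1 = Z 0 := by rw [← hs0, inv_conj_conj]
    have e1 : MulAut.conj s⁻¹ • Z 0 = Z 1 := by rw [← hs1, inv_conj_conj]
    refine ⟨?_, ?_, ?_⟩
    · have h4 := cj_mem_AA s⁻¹ h1
      have h5 : ChoiceBase.cj s⁻¹ (OO Z) = OO Z := by
        have h6 : MulAut.conj s⁻¹ • (MulAut.conj s • OO Z) = OO Z := inv_conj_conj s _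
        rw [hO] at h6
        exact h6
      rwa [h5] at h4
    · have h4 := conj_le_iff (g := s⁻¹) |>.2 h3
      rwa [← QQ_conj, e0] at h4
    · have h4 := conj_le_iff (g := s⁻¹) |>.2 h2
      rwa [← QQ_conj, e1] at h4
  set J : Subgroup G := ⨆ A : SS Z, (A : Subgroup G) with hJ
  have hJO : J ≤ OO Z := iSup_le fun A => ((SS_iff D I hF hNO _).1 A.2).1.2.1
  have hinv : ∀ g : G, (∀ X, X ∈ SS Z → MulAut.conj g • X ∈ SS Z) → ∀ x ∈ J, g * x * g⁻¹ ∈ J := by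
    intro g hg x hx
    have h2 : J ≤ MulAut.conj g⁻¹ • J := by
      refine iSup_le fun A => ?_
      have h3 : MulAut.conj g • (A : Subgroup G) ≤ J := le_iSup (fun A : SS Z => (A : Subgroup G)) ⟨_, hg A A.2⟩
      have h4 : MulAut.conj g⁻¹ • (MulAut.conj g • (A : Subgroup G)) ≤ MulAut.conj g⁻¹ • J := conj_le_iff.2 h3
      rwa [conj_conj, inv_mul_cancel, map_one, one_smul] at h4
    have h5 := h2 hx
    rw [mem_conj, inv_inv] at h5
    exact h5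
  have hJ1 : J = ⊥ := by
    refine D.nonLoc J ((MinSimple.VModule.o2_isPGroup _).to_le hJO) (le_norm_of fun g hg => hinv g fun X hX => ?_)
      (le_norm_of fun g hg => hinv g fun X hX => SS_inv D I hF hNO hg hX)
    have h1 : s * g * s⁻¹ ∈ HH (Z 1) := by
      rw [← hs0, HH_conj, mem_conj]
      have e : s⁻¹ * (s * g * s⁻¹) * s = g := by group
      rwa [e]
    have h2 := hs' _ (SS_inv D I hF hNO h1 (hs X hX))
    rw [conj_conj, conj_conj] at h2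
    have e : s⁻¹ * (s * g * s⁻¹) * s = g := by group
    rwa [e] at h2
  obtain ⟨A', hA'⟩ := AA_nonempty (OO Z)
  have h1 := (D.exact_AA hNO 1 hA').2.2
  have h2 : (A' ⊓ centralizer (NN Z (Z 1) : Set G)) ⊔ NN Z (Z 1) ≤ QQ (Z 1) :=
    (le_inf h1.2.1 (sup_le inf_le_right (D.N_comm 1))).trans (D.O_inf_le 1)
  have h3 : RR Z ((A' ⊓ centralizer (NN Z (Z 1) : Set G)) ⊔ NN Z (Z 1)) ∈ SS Z := ⟨_, h1, h2, rfl⟩
  have h4 : Z 1 ≤ J := I.adj01.le_NN.trans ((le_sup_right : NN Z (Z 0) ≤ _).trans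
    (le_iSup (fun A : SS Z => (A : Subgroup G)) ⟨_, h3⟩))
  rw [hJ1, le_bot_iff] at h4
  apply D.ne
  rw [← hs1, h4, Subgroup.smul_bot]

/-- **The exact group on `X_0`** if `AA O` centralises `U 0`. -/
theorem exists_exX (hNO : NoDQ Z) (hc : ∀ A ∈ AA (OO Z), A ≤ centralizer (U 0 : Set G)) :
    ∃ A : Subgroup G, IsElementaryAbelian 2 A ∧ A ≤ OO Z ∧ A ≤ o2 (centralizer (U 0 : Set G)) ∧
      (centralizer (A : Set G)).relIndex (XW Z U (Z 0)) ≤ (centralizer (NN Z (Z 0) : Set G)).relIndex A ∧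
      ¬ A ≤ centralizer (NN Z (Z 0) : Set G) := by
  by_contra hcon
  refine not_fail D I hNO fun A hA hAQ => ?_
  by_contra hmv
  apply hcon
  have hNX : NN Z (Z 0) ≤ XW Z U (Z 0) := le_sup_left
  -- `C_A(N_0)` centralises `X_0`
  have hK := RR_mem D hNO hA
  have hKX : RR Z A ≤ centralizer (XW Z U (Z 0) : Set G) := by
    have hKC : RR Z A ≤ centralizer (NN Z (Z 0) : Set G) := hK.2.1.trans (D.Q_cent_N 0)
    refine comm_symm (sup_le (comm_symm hKC) (iSup_le fun l => comm_symm ?_))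
    obtain ⟨c, hc', e⟩ := D.ln_conj l.2
    have h1 := (conj_AA D 0 hK.1 hK.2.1 (inv_mem hc')).1
    have h4 := conj_le_centralizer (g := c) (hc _ h1)
    rw [conj_conj, mul_inv_cancel, map_one, one_smul] at h4
    rw [e]
    exact h4
  have hAX : A ⊓ centralizer (NN Z (Z 0) : Set G) ≤ centralizer (XW Z U (Z 0) : Set G) :=
    (le_sup_left : _ ≤ RR Z A).trans hKX
  have hrel : ∀ A' ≤ A, (centralizer (XW Z U (Z 0) : Set G)).relIndex A' =
      (centralizer (NN Z (Z 0) : Set G)).relIndex A' := by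
    intro A' hA'
    rw [← inf_relIndex_left A', ← inf_relIndex_left A' (centralizer (NN Z (Z 0) : Set G))]
    congr 1
    refine le_antisymm (inf_le_inf_left _ (centralizer_le hNX)) (le_inf inf_le_left ?_)
    exact (inf_le_inf_right _ hA').trans hAX
  have hnob : ∀ A' ≤ A, Nob (NN Z (Z 0)) A' → Nob (XW Z U (Z 0)) A' := by
    intro A' hA' h
    unfold Nob at h ⊢
    rw [hrel A' hA']
    exact h.trans (relIndex_le_of_le_right hNX index_ne_zero_of_finite)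
  have hXO : XW Z U (Z 0) ≤ OO Z := (D.XW_le_Q 0).trans (D.Q_le_O 0)
  have hE : Exa (XW Z U (Z 0)) A := (swp (D.XW_eab 0) hXO hA (hnob A le_rfl (hNO 0 A hA.1 hA.2.1))).1
  have h1 : IsElementaryAbelian 2 (A ⊓ centralizer (ZV Z U : Set G) : Subgroup G) := eab_mono hA.1 inf_le_left
  have h2 : A ⊓ centralizer (ZV Z U : Set G) ≤ OO Z := inf_le_left.trans hA.2.1
  have h3 := (exa_peel (I.ZV_le.trans hNX) hE (nobZV D I hA hAQ) (hnob _ inf_le_left (hNO 0 _ h1 h2))).1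
  refine ⟨_, h1, h2, ?_, ?_, hmv⟩
  · exact I.le_o2_cent h2 (inf_le_left.trans (hAQ.trans (Q1_le_C D I))) inf_le_right
  · unfold Exa at h3
    rw [← h3, hrel _ inf_le_left]

end

end Cfsg.Agent.Omega.KL.QF.NotFail

end

-- merged: Cfsg.Agent.Mrg.Omega.KL.QF.HJ
section

section


/-!
# `J(O)` moves `W i` (`k = 2`, `q ≥ 4`, every level), Row (7) from generation and FIX (helper651; helper475 #24418, helper33 #24623)

* `qfb_of` : the frame `QFb Z W B (C_S(Z 0))` from `Bg`, `GenU`, `FixU` (no `W 0 ≤ N_0`);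
* `hJ_zero`, **`hJ_of`** : `W 0 ≰ N_0` : some `A ∈ AA (OO Z)` moves `W i`;
* **`false_of_gen (h : Bg ..) (4 ≤ q) (TI) (NonLoc) (GenU) (FixU) (MLK) (Ext) : False`** (`Row7B.MB.false` without (V!)).
-/

set_option autoImplicit false
set_option linter.unusedSectionVars false

namespace Cfsg.Agent.Omega.KL.QF.HJ

open Subgroup Cfsg Cfsg.Agent.ZN.ChoiceBase
open Cfsg.Agent.ZN (jj zj bau zc zl o2)
open Cfsg.Agent.ZN.ChoiceSit (Syl)
open Cfsg.Agent.Omega.OM Cfsg.Agent.Omega.OM.Uni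
open Cfsg.Agent.Omega.OM.UniPlus (NB)
open Cfsg.Agent.Omega.OM.PG.Peel (XW ln_le_XW)
open Cfsg.Agent.Omega.OM.PG.TwoI (TA')
open Cfsg.Agent.Omega.NO3S.EThree
open Cfsg.Agent.Omega.NO3S.EThree.Frame
open Cfsg.Agent.Omega.NO3S.EThree.Row7 (Nn vec2 vec2' fin2)
open Cfsg.Agent.Omega.NO3S.EThree.Row7B
open Cfsg.Agent.Omega.MinPar (NonLoc)
open Cfsg.Agent.Omega.TCQ.R
open Cfsg.Agent.Omega.KL.QF Cfsg.Agent.Omega.KL.QF.OfBg Cfsg.Agent.Omega.KL.QF.PtV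
open Cfsg.Agent.Omega.KL.Q (ExG.In)
open Cfsg.Agent.MinSimple.MinParabolic (IsMinPar)
open scoped Pointwise

universe u

variable {G : Type u} [Group G] [Finite G] {S : Sylow 2 G} {P B ZJ : Subgroup G} {L W Z C : Fin 2 → Subgroup G} {q : ℕ}

section

variable (h : Bg S P B ZJ L W Z C q)
include h

theorem exists_pa : ∃ s, Pa (S : Subgroup G) W 0 1 s := by
  obtain ⟨j, s, p⟩ := h.exists_partner 0
  rcases fin2 j with rfl | rfl
  · exact absurd rfl p.ne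
  · exact ⟨s, p⟩

variable {s : G} (p : Pa (S : Subgroup G) W 0 1 s) (hTI : TI (Z 0))
  (hnl : NonLoc (normalizer (Z 0 : Set G)) (normalizer (Z 1 : Set G)))
include p hTI hnl

/-- `R ≤ N(V_P)`, without `W 0 ≤ N_0` -/
theorem uni_b' (hfix : FixU (S : Subgroup G) P W Z 0 1) {R L' : Subgroup G}
    (hmp : IsMinPar ((S : Subgroup G) ⊓ centralizer (Z 0 : Set G)) R)
    (hRC : R ≤ centralizer (Z 0 : Set G)) (hne : ¬ R ≤ normalizer (Z 1 : Set G))
    (hLR : L' ≤ R) (hR : R ≤ ((S : Subgroup G) ⊓ centralizer (Z 0 : Set G)) ⊔ L') (hb : NB B L' (W 1) (Z 1) q)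
    (hRW : R ≤ normalizer (W 1 : Set G)) : R ≤ normalizer ((W 0 ⊔ W 1 : Subgroup G) : Set G) := by
  have D : FQ Z W B q := FQ.of_bg h hTI hnl
  have h2 : ∀ l : Fin 2, l = 0 ∨ l = 1 := fun l => fin2 l
  have hV := V_eq h h2 p.ne
  have hXc : XW Z W (Z 0) ≤ centralizer (XW Z W (Z 0) : Set G) := D.XW_comm 0
  have hXB : XW Z W (Z 0) ≤ B := (D.XW_le_Q 0).trans (h.o2_le 0)
  have h0 : W 0 ≤ XW Z W (Z 0) := ln_le_XW (D.ln 0)
  have h1 : W 1 ≤ XW Z W (Z 0) := (D.U_le_N (by decide : (0 : Fin 2) ≠ 1)).trans le_sup_left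
  have hXQ : XW Z W (Z 0) ≤ o2 P := by
    intro n hn
    refine (h.fr.mem_Q n (hXB hn)).2 fun v hv => ?_
    rw [hV] at hv
    exact (mem_centralizer_iff.1 (hXc hn) v ((sup_le h0 h1) hv)).symm
  have hCX : centralizer (Z 0 : Set G) ≤ normalizer (XW Z W (Z 0) : Set G) :=
    (centralizer_le_normalizer _).trans (OM.PG.CX.nor_X D.xf (D.pt 0))
  refine hR.trans (sup_le (PG.ThmG.norm_sup (TU0 h p h2) (TU1 h p h2)) fun r hr => ?_)
  have hrR := hLR hr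
  have hrc : ∀ z ∈ Z 0, r * z * r⁻¹ = z := fun z hz => by
    rw [← mem_centralizer_iff.1 (hRC hrR) z hz, mul_inv_cancel_right]
  refine mem_normalizer_of_cj_le ?_
  rintro _ ⟨v, hv, rfl⟩
  change r * v * r⁻¹ ∈ W 0 ⊔ W 1
  obtain ⟨w, hw, c, hc, rfl⟩ := SQ1.Bau.mem_sup_comm
    (fun a ha b hb => h.fr.Vc (h.fr.WV 0 ha) (h.fr.WV 1 hb)) hv
  have e1 : r * (w * c) * r⁻¹ = (r * w * r⁻¹) * (r * c * r⁻¹) := by group
  rw [e1]
  refine mul_mem ?_ (mem_sup_right ((mem_normalizer_iff.1 (hRW hrR) c).1 hc))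
  rw [← hV]
  have hn : r * w * r⁻¹ ∈ XW Z W (Z 0) := (mem_normalizer_iff.1 (hCX (hRC hrR)) w).1 (h0 hw)
  refine hfix R hmp hRC hne r hrR w hw (hXQ hn) fun b hbQ => ?_
  have hbB := h.fr.QB hbQ
  have h3 : r⁻¹ * b * r ∈ B := by
    have := hb.cor r⁻¹ (inv_mem hr) b hbB fun v hv => h.fr.cQ hbQ (h.fr.WV 1 hv)
    rwa [inv_inv] at this
  have h4 := (h.fr.blk 0).com _ h3 w hw
  have e2 : r * w * r⁻¹ * b * (r * w * r⁻¹)⁻¹ * b⁻¹ =
      r * ((r⁻¹ * b * r) * w * (r⁻¹ * b * r)⁻¹ * w⁻¹)⁻¹ * r⁻¹ := by group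
  rw [e2, hrc _ (inv_mem h4)]
  exact inv_mem h4

/-- **The frame `QFb`.** -/
theorem qfb_of (huni : GenU (S : Subgroup G) B ZJ W Z q 0 1) (hfix : FixU (S : Subgroup G) P W Z 0 1) :
    QFb Z W B ((S : Subgroup G) ⊓ centralizer (Z 0 : Set G)) := by
  have D : FQ Z W B q := FQ.of_bg h hTI hnl
  have h2 : ∀ l : Fin 2, l = 0 ∨ l = 1 := fun l => fin2 l
  have ev : (![Z 0, Z 1] : Fin 2 → Subgroup G) = Z := vec2 Z
  refine
    { toPP := D.toPP
      ti := D.ti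
      fus := D.fus
      inf := D.inf
      ZU1 := (h.fr.blk 1).ZV
      U1N := D.U_le_N (by decide : (0 : Fin 2) ≠ 1)
      pts := fun x hx hx1 => by
        have := pts h (i := 0) (j := 1) hx hx1
        rwa [ev] at this
      prod := fun a ha haU hne => prod h hTI (j := 1) (by rw [ev]; exact ha) haU hne
      syl := syl_T h 0
      TB := TB h p h2
      T1 := T1 h p h2
      TU0 := TU0 h p h2
      TU1 := TU1 h p h2
      com := fun t ht x hx => com h p h2 ht hx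
      fixU := ?_
      fixU1 := ?_
      nT := ?_
      nB := ?_
      uni := ?_ }
  · intro x hx hfx
    exact (h.fr.blk 0).toMd.mem_Z_iff.2 ⟨hx, fun b hb => mul_inv_eq_iff_eq_mul.1 (hfx b (B_le_T h 0 hb))⟩
  · intro x hx hfx
    exact (h.fr.blk 1).toMd.mem_Z_iff.2 ⟨hx, fun b hb => mul_inv_eq_iff_eq_mul.1 (hfx b (B_le_T h 0 hb))⟩
  · rintro g ⟨hg, hgT⟩
    obtain ⟨h3, h4⟩ := nB' h p h2 hg (nT' h p h2 hgT)
    exact ⟨mem_normalizer_iff_cj.2 h3, mem_normalizer_iff_cj.2 h4⟩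
  · rintro g ⟨hg, hgB⟩
    exact mem_normalizer_iff_cj.2 (nB' h p h2 hg hgB).2
  · intro R hmp hRC hne
    obtain ⟨L', V', l, hLR, hR, hb, hV⟩ := huni R hmp hRC hne
    obtain ⟨hRW, rfl, rfl⟩ := uni_a h p h2 hRC hLR hR hb hV
    have hBR : B ≤ R := (B_le_T h 0).trans hmp.le
    refine ⟨hRW, uni_b' h p hTI hnl hfix hmp hRC hne hLR hR hb hRW,
      fun x hx hx1 y hy hy1 => uni_c h hBR hLR hb hx hx1 hy hy1, ?_⟩
    obtain ⟨r, hr, hrn, m, hm, hmr⟩ := uni_d h p h2 hTI hBR hRW hne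
    exact ⟨r, hr, hrn, m, centralizer_le (h.fr.blk 0).ZV hm, hm, hmr⟩

/-- the module frame `QFt` with `X = XW Z W (Z 0)` -/
theorem qft_of (hq : 4 ≤ q) {T : Subgroup G} (hBT : B ≤ T) (E : QFb Z W B T) (hW : ¬ W 0 ≤ Nn Z 0) :
    QFt Z W B T (XW Z W (Z 0)) := by
  have D : FQ Z W B q := FQ.of_bg h hTI hnl
  have h2 : ∀ l : Fin 2, l = 0 ∨ l = 1 := fun l => fin2 l
  have ev : (![Z 0, Z 1] : Fin 2 → Subgroup G) = Z := vec2 Z
  have hCX : centralizer (Z 0 : Set G) ≤ normalizer (XW Z W (Z 0) : Set G) :=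
    (centralizer_le_normalizer _).trans (OM.PG.CX.nor_X D.xf (D.pt 0))
  refine
    { toQFs :=
        { toQFb := E
          NX := le_sup_left
          U0N := ln_le_XW (D.ln 0)
          Ncomm := D.XW_comm 0
          Xsq := (ExactA.eab_iff.1 (D.XW_eab 0)).2
          CN := hCX }
      four := ?_
      adjC := fun u hu => Fin.adjC h p.ne h2 hBT E.syl (by rw [ev]; exact hu)
      core0 := fun J hJ hn hsq => ?_
      gX := ?_
      out := ?_ }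
  · have h1 : Nat.card (Z 0) * (Z 0).relIndex (W 0) = Nat.card (W 0) :=
      Cfsg.Agent.Omega.NO3S.ML.card_mul_relIndex (h.fr.blk 0).ZV
    rw [(h.fr.blk 0).card] at h1
    have h3 : (Z 0).relIndex (W 0) = q := Nat.eq_of_mul_eq_mul_left Nat.card_pos h1
    rw [h3]
    exact hq
  · exact CoreP.of_bg h J hJ hn fun y hy => by
      rw [← pow_two]
      exact hsq y hy
  · intro W' hN hW0 hinv
    refine sup_le hN (iSup_le fun l => ?_)
    obtain ⟨c, hc, e⟩ := D.ln_conj l.2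
    obtain ⟨x, hx, hn⟩ := Fin.frattini E.syl hc
    have hxc : x⁻¹ * c ∈ normalizer (Z 0 : Set G) := mul_mem (inv_mem (centralizer_le_normalizer _ hx)) hc
    have h1 : x⁻¹ * c ∈ normalizer (W 0 : Set G) := by
      have h3 : cj (x⁻¹ * c) B = B := h.wc T E.syl.2.1 hBT _ (by
        have := cj_mono (x⁻¹ * c) hBT
        rwa [cj_eq_of_mem_normalizer hn] at this)
      exact mem_normalizer_iff_cj.2 (h.cj_W (mem_normalizer_iff_cj.2 h3) (cj_eq_of_mem_normalizer hxc))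
    have e1 : MulAut.conj c • W 0 = MulAut.conj x • W 0 := by
      have e2 : c = x * (x⁻¹ * c) := by group
      rw [e2, ← NoFF.Basic.conj_conj, NOThreeL.Pair.conj_eq_of_mem h1]
    rw [e, e1]
    rintro _ ⟨w, hw, rfl⟩
    exact hinv x hx w (hW0 hw) (ln_le_XW (D.ln 0) hw)
  · intro hle
    obtain ⟨x, hx, hxZ⟩ := D.exists_ne_Z 0
    obtain ⟨z, hz, n, hn, hzn⟩ := OM.KTwo.exists_mul_of_mem_sup
      (((D.NQ 0).trans (D.cen 0)).trans (centralizer_le_normalizer _)) (hle hx)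
    have h3 : n ∈ W 0 := by
      have e : n = z⁻¹ * x := by rw [hzn]; group
      rw [e]
      exact mul_mem (inv_mem (D.ZU' 0 hz)) hx
    have h4 := D.inf_U hW h3 hn
    apply hxZ
    rw [hzn]
    exact mul_mem hz h4

/-- **`J(O)` moves `W 0`** if `W 0 ≰ N_0`. -/
theorem hJ_zero (hML : ML.Final.MLK.{u, u}) (hN : KL.Q.DefG.NoPreG.{u, u}) (hq : 4 ≤ q) {T : Subgroup G} (hBT : B ≤ T)
    (E : QFb Z W B T) (hu : ∀ R : Subgroup G, IsMinPar T R → R ≤ centralizer (Z 0 : Set G) →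
      ¬ R ≤ normalizer (Z 1 : Set G) → R ≤ normalizer (W 1 : Set G)) (hW : ¬ W 0 ≤ Nn Z 0) :
    ∃ A ∈ AA (OO Z), ¬ A ≤ centralizer (W 0 : Set G) := by
  by_contra hcon
  push Not at hcon
  have D : FQ Z W B q := FQ.of_bg h hTI hnl
  have hNO := NoDQ.of_bg h hML hTI hnl
  have h2 : ∀ l : Fin 2, l = 0 ∨ l = 1 := fun l => fin2 l
  have I : ExG.In Z W := by
    have h1 := KL.Q.ExQF.in_of_uni h p h2 hTI hnl hML hBT E.syl hu
    rwa [vec2, vec2] at h1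
  obtain ⟨A, hA, hAO, hAU, hEx, hAn⟩ := NotFail.exists_exX D I hNO hcon
  have hK : IsKGroup (centralizer (Z 0 : Set G)) := by
    refine h.hyp.ctx.kproper _ fun e => ?_
    exact KL.Q.ExBg.ne_top' h hnl (top_le_iff.1 (e ▸ centralizer_le_normalizer _))
  obtain ⟨M, _, _, _, X, Y, hP⟩ := (qft_of h p hTI hnl hq hBT E hW).preG hK
    (fun a ha => by rw [← pow_two]; exact (ExactA.eab_iff.1 hA).2 a ha) hAO hAU hEx hAn
  exact hN _ _ _ _ _ _ hP

/-- **`J(O)` moves `W i`**, both `i`. -/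
theorem hJ_of (hML : ML.Final.MLK.{u, u}) (hN : KL.Q.DefG.NoPreG.{u, u}) (hq : 4 ≤ q) {T : Subgroup G} (hBT : B ≤ T)
    (E : QFb Z W B T) (hu : ∀ R : Subgroup G, IsMinPar T R → R ≤ centralizer (Z 0 : Set G) →
      ¬ R ≤ normalizer (Z 1 : Set G) → R ≤ normalizer (W 1 : Set G)) (hW : ¬ W 0 ≤ Nn Z 0) (i : Fin 2) :
    ∃ A ∈ AA (OO Z), ¬ A ≤ centralizer (W i : Set G) := by
  obtain ⟨A, hA, hm⟩ := hJ_zero h p hTI hnl hML hN hq hBT E hu hW
  rcases fin2 i with rfl | rfl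
  · exact ⟨A, hA, hm⟩
  have hO : cj s (OO Z) = OO Z := by
    have h2 : cj s (Z 0 ⊔ Z 1) = Z 0 ⊔ Z 1 := by
      have e : cj s (Z 0 ⊔ Z 1) = cj s (Z 0) ⊔ cj s (Z 1) := Subgroup.map_sup _ _ _
      rw [e, h.cj_s_Z p, h.cj_s_Z' p, sup_comm]
    have h4 := NO3L.LemP.normalizer_le_normalizer_cent (Z 0 ⊔ Z 1) (mem_normalizer_iff_cj.2 h2)
    exact NOThreeL.Pair.conj_eq_of_mem (Cfsg.Agent.Omega.normalizer_le_normalizer_o2' _ h4)
  refine ⟨cj s A, ?_, fun h1 => hm ?_⟩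
  · have h3 := cj_mem_AA s hA
    rwa [hO] at h3
  · rw [← p.ij, ← cj_centralizer, cj_le_iff, cj_inv_cj] at h1
    exact h1

end

end Cfsg.Agent.Omega.KL.QF.HJ

end

section


/-!
# Row (7) (`k = 2`, `q ≥ 4`, case (E), TI) without the level and without (V!) (helper651)

helper509's `Row7B.MB.false` with (V!) replaced by `hJ` (`KL/QF/HJ.lean`): `J(O)` moves `W i` if `W i ≰ N_i`.

* `MJ S P B ZJ L W Z C q` : `Bg`, `4 ≤ q`, TI, nonlocal, generation by blocks `GenU`, `FixU`;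
* **`MJ.false : MLK → Ext → MJ .. → False`**;
* **`eX (hML) (hE) (hT : TiX K) (hW : NoWX K) : EX K fun k q => k = 2 ∧ 4 ≤ q`.**
-/

set_option autoImplicit false
set_option linter.unusedSectionVars false

namespace Cfsg.Agent.Omega.NO3S.EThree.Row7J

open Subgroup Cfsg Cfsg.Agent.ZN.ChoiceBase
open Cfsg.Agent.ZN (jj zj bau zc zl o2)
open Cfsg.Agent.ZN.ChoiceSit (Syl)
open Cfsg.Agent.Omega.OM
open Cfsg.Agent.Omega.OM.PG.Peel (XW)
open Cfsg.Agent.Omega.OM.PG.TwoI (TA')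
open Cfsg.Agent.Omega.Frame (Cls)
open Cfsg.Agent.Omega.NO3S.EThree
open Cfsg.Agent.Omega.NO3S.EThree.Frame
open Cfsg.Agent.Omega.NO3S.EThree.Row7 (Nn vec2 vec2' fin2)
open Cfsg.Agent.Omega.MinPar (NonLoc)
open Cfsg.Agent.Omega.TCQ.R
open Cfsg.Agent.Omega.KL.QF (QFr QFb)
open Cfsg.Agent.Omega.KL.QF.OfBg (GenU FixU uni_a)
open Cfsg.Agent.Omega.KL.QF.PtV (B_le_T)
open Cfsg.Agent.Omega.KL.QF.KInX (NoW weirdK_of)
open Cfsg.Agent.Omega.Node.MultiOf Cfsg.Agent.Omega.Node.MulG Cfsg.Agent.Omega.Node.MulX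
open scoped Pointwise

universe u

section

variable {G : Type u} [Group G] [Finite G]

/-- **The data of row (7), without the level and without (V!).** -/
structure MJ (S : Sylow 2 G) (P B ZJ : Subgroup G) (L W Z C : Fin 2 → Subgroup G) (q : ℕ) : Prop where
  bg : Bg S P B ZJ L W Z C q
  hq : 4 ≤ q
  ti : ∀ i, TI (Z i)
  nonloc : NonLoc (normalizer (Z 0 : Set G)) (normalizer (Z 1 : Set G))
  gen : GenU (S : Subgroup G) B ZJ W Z q 0 1
  fix : FixU (S : Subgroup G) P W Z 0 1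

namespace MJ

variable {S : Sylow 2 G} {P B ZJ : Subgroup G} {L W Z C : Fin 2 → Subgroup G} {q : ℕ}
  (h : MJ S P B ZJ L W Z C q)
include h

theorem fq : FQ Z W B q := FQ.of_bg h.bg (h.ti 0) h.nonloc

theorem exists_pa : ∃ s, Pa (S : Subgroup G) W 0 1 s := KL.QF.HJ.exists_pa h.bg

/-- UNI, weak form -/
theorem uni : UniQ Z W B := by
  obtain ⟨s, p⟩ := h.exists_pa
  exact Row7B.uniQ_of_gen h.bg p h.gen

theorem qfb : QFb Z W B ((S : Subgroup G) ⊓ centralizer (Z 0 : Set G)) := by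
  obtain ⟨s, p⟩ := h.exists_pa
  exact KL.QF.HJ.qfb_of h.bg p (h.ti 0) h.nonloc h.gen h.fix

/-- the swap on `N_i` -/
theorem cj_N {s : G} (p : Pa (S : Subgroup G) W 0 1 s) : cj s (Nn Z 0) = Nn Z 1 := by
  have h1 : PG.NN Z (cj s (Z 0)) = cj s (PG.NN Z (Z 0)) := PG.NN_conj s (Z 0)
  rw [h.bg.cj_s_Z p] at h1
  exact h1.symm

theorem le_iff : W 0 ≤ Nn Z 0 ↔ W 1 ≤ Nn Z 1 := by
  obtain ⟨s, p⟩ := h.exists_pa
  have e1 := h.cj_N p
  constructor
  · intro h1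
    rw [← e1, ← p.ij]
    exact cj_mono s h1
  · intro h1
    have h2 : cj s (W 0) ≤ cj s (Nn Z 0) := by rw [e1, p.ij]; exact h1
    rwa [cj_le_iff, cj_inv_cj] at h2

theorem rad (h0 : Z 0 ≤ Nn Z 0) (i : Fin 2) : Z i ≤ Nn Z i := by
  rcases fin2 i with rfl | rfl
  · exact h0
  obtain ⟨s, p⟩ := h.exists_pa
  rw [← h.bg.cj_s_Z p, ← h.cj_N p]
  exact cj_mono s h0

/-- `1 ≠ [N_0, N_1] ≤ Z_0Z_1` is impossible. -/
theorem comm_false (com : ∀ x ∈ Nn Z 0, ∀ y ∈ Nn Z 1, x * y * x⁻¹ * y⁻¹ ∈ Z 0 ⊔ Z 1)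
    (nc : ¬ Nn Z 0 ≤ centralizer (Nn Z 1 : Set G)) : False := by
  obtain ⟨s, p⟩ := h.exists_pa
  refine h.bg.comm_false p (fun l => fin2 l) (h.ti 0) h.nonloc ?_ ?_
  · rw [vec2]
    exact com
  · rw [vec2]
    exact nc

/-- `[N_0, N_1] = 1` if `N_0 ∩ N_1 ≤ Z_0Z_1`. -/
theorem com_of_inter (hi : Nn Z 0 ⊓ Nn Z 1 ≤ Z 0 ⊔ Z 1) : Nn Z 0 ≤ centralizer (Nn Z 1 : Set G) := by
  by_contra nc
  refine h.comm_false (fun x hx y hy => hi ?_) nc
  have hPP : PG.PP Z W := h.fq.toPP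
  have a01 : PG.Adj Z (Z 0) (Z 1) := ⟨1, by rw [map_one, one_smul], by rw [map_one, one_smul]⟩
  have pt0 : PG.IsPt Z (Z 0) := ⟨1, by rw [map_one, one_smul]⟩
  have h1 : Nn Z 0 ≤ PG.HH (Z 1) := (hPP.NN_le_QQ pt0).trans (hPP.QQ_le_HH (hPP.adj_symm a01))
  have h2 : Nn Z 1 ≤ PG.HH (Z 0) := (hPP.NN_le_QQ (hPP.adj_pt a01)).trans (hPP.QQ_le_HH a01)
  refine mem_inf.2 ⟨?_, ?_⟩
  · have e : x * y * x⁻¹ * y⁻¹ = x * (y * x⁻¹ * y⁻¹) := by group
    rw [e]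
    exact mul_mem hx ((mem_normalizer_iff.1 (PG.PP.HH_le_NN (Z 0) (h2 hy)) _).1 (inv_mem hx))
  · exact mul_mem ((mem_normalizer_iff.1 (PG.PP.HH_le_NN (Z 1) (h1 hx)) _).1 hy) (inv_mem hy)

theorem sylU0 : SylU0 Z W :=
  ⟨(S : Subgroup G) ⊓ normalizer (Z 0 : Set G), h.bg.syl 0, by
    rw [h.bg.inf_normalizer 0]; exact inf_le_right⟩

theorem regX : PG.PcQ.RegX Z (XW Z W) := by
  have h2 : 2 < q := lt_of_lt_of_le (by decide) h.hq
  have D : FQ ![Z 0, Z 1] ![W 0, W 1] B q := by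
    rw [vec2, vec2]
    exact h.fq
  have h1 := h.bg.regX h2 D
  rwa [vec2, vec2] at h1

/-- `J(O)` moves `W i` -/
theorem hJ (hML : ML.Final.MLK.{u, u}) (hE : ML.Ex.Two.Ext.{u, u}) (hV : ¬ W 0 ≤ Nn Z 0) (i : Fin 2) :
    ∃ A ∈ AA (OO Z), ¬ A ≤ centralizer (W i : Set G) := by
  obtain ⟨s, p⟩ := h.exists_pa
  refine KL.QF.HJ.hJ_of h.bg p (h.ti 0) h.nonloc hML (KL.Q.EndG.noPreG hML hE) h.hq (B_le_T h.bg 0) h.qfb ?_ hV i
  intro R hR hRC hne
  obtain ⟨L', V', l, hLR, hRL, hb, hV⟩ := h.gen R hR hRC hne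
  exact (uni_a h.bg p (fun l => fin2 l) hRC hLR hRL hb hV).1

/-- LEMMA 0 -/
theorem l0 : PG.PcQ.L0 Z := h.fq.l0 h.bg.wc h.uni

/-- **(A)**: `W i ≰ N_i` is impossible. -/
theorem false_V (hML : ML.Final.MLK.{u, u}) (hE : ML.Ex.Two.Ext.{u, u}) (hV : ∀ i, ¬ W i ≤ Nn Z i) : False := by
  have D := h.fq
  have noD := NoDQ.of_bg h.bg hML (h.ti 0) h.nonloc
  have noQ := NoQQ.of_bg h.bg hML (h.ti 0) h.nonloc
  have noP := NoP.of_bg h.bg hML (h.ti 0) h.nonloc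
  have h2 : 2 < q := lt_of_lt_of_le (by decide) h.hq
  by_cases h0 : Z 0 ≤ Nn Z 0
  · have hrad := h.rad h0
    have hL := Plug.LvIn.of_bgJ h.bg (h.ti 0) h.nonloc (h.hJ hML hE (hV 0))
      fun i K h1 h2 h3 => D.done h.bg.wc h.uni h1 h2 h3
    have h1b : OneB Z W := End.oneB_of D noD noQ hL hrad hV
    have h1a : TA' Z (XW Z W) := PlugA.ta_of D.toPP D.xf noP D.tip
      fun A hA2 hAc hAX hmv hH => End.false_of_H D noD noQ hL (hrad 0) (hV 0) hA2 hAc hAX hmv hH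
    exact D.false_rad noD noQ noP (CoreP.of_bg h.bg) h.com_of_inter hrad h1a h1b
  · refine D.nrTwo noP (D.thmC2_nr h2 h0 h.sylU0 fun K h3 h4 h5 => D.done h.bg.wc h.uni h3 h4 h5) h0 ?_
    exact NrOne.nr_one D h2 h.regX h0 (D.adj (i := 1) (j := 0) (by decide))

/-- **Row (7).** -/
protected theorem false (hML : ML.Final.MLK.{u, u}) (hE : ML.Ex.Two.Ext.{u, u}) : False := by
  by_cases h0 : W 0 ≤ Nn Z 0
  · obtain ⟨s, p⟩ := h.exists_pa
    refine KL.QF.Fin.false_of_qfr h.bg p (fun l => fin2 l) h.hq hML (KL.Q.EndG.noPreG hML hE)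
      (T := (S : Subgroup G) ⊓ centralizer (Z 0 : Set G)) ?_
    rw [vec2, vec2]
    exact h.qfb.qfr h0
  · refine h.false_V hML hE fun i => ?_
    rcases fin2 i with rfl | rfl
    · exact h0
    · exact fun h1 => h0 (h.le_iff.2 h1)

end MJ

end

variable {K : Cls.{u}}

/-- **Row (7) over `MulL`**, from TI and NoW. -/
theorem eX (hML : ML.Final.MLK.{u, u}) (hE : ML.Ex.Two.Ext.{u, u}) (hT : Row7X.TiX K) (hW : Row7X.NoWX K) :
    EX K fun k q => k = 2 ∧ 4 ≤ q := by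
  rintro G _ _ hG S P B ZJ k L W Z C A q - ⟨rfl, hq⟩ hM hN
  have hti := hT G hG S P B ZJ L W Z C A q hq hM hN
  have hg := Row7X.gen hM hti (weirdK_of hM.bg hti (hW G hG S P B ZJ L W Z C A q hq hM hN hti))
  exact ((⟨hM.bg, hq, hti, Row7X.nonloc hM hN, hg.1, hg.2⟩ : MJ S P B ZJ L W Z C q).false hML hE).elim

end Cfsg.Agent.Omega.NO3S.EThree.Row7J

end

end
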